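import Mathlib

/-!
Stabilising a two-step series with coprime orders.
-/

set_option autoImplicit false

namespace Cfsg.Agent.H42

/-- If `a` moves `h` by an element `k` it fixes and the orders of `a` and `k` are coprime,
then `a` fixes `h`. -/
theorem stab_step {G : Type*} [Group G] {a h k : G} (hk : a * h * a⁻¹ = h * k)
    (hak : a * k = k * a) (hco : (orderOf a).Coprime (orderOf k)) : a * h = h * a := by
  have hn : ∀ n : ℕ, a ^ n * h * (a ^ n)⁻¹ = h * k ^ n := by
    intro n
    induction n with
    | zero => simp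
    | succ n ih =>
      have hc : Commute a (k ^ n) := (show Commute a k from hak).pow_right n
      calc a ^ (n + 1) * h * (a ^ (n + 1))⁻¹ = a * (a ^ n * h * (a ^ n)⁻¹) * a⁻¹ := by
            rw [pow_succ']; group
        _ = (a * h * a⁻¹) * (a * k ^ n * a⁻¹) := by rw [ih]; group
        _ = h * k * k ^ n := by rw [hk, hc.eq, mul_inv_cancel_right]
        _ = h * k ^ (n + 1) := by rw [pow_succ', mul_assoc]
  have h1 : k ^ orderOf a = 1 := by
    have := hn (orderOf a)
    rw [pow_orderOf_eq_one] at this
    simpa using this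
  have h2 : k = 1 := orderOf_eq_one_iff.mp
    (Nat.eq_one_of_dvd_coprimes hco (orderOf_dvd_of_pow_eq_one h1) dvd_rfl)
  rw [h2, mul_one] at hk
  exact mul_inv_eq_iff_eq_mul.mp hk

/-- Coprime action stabilising `⊤ ≥ C(A)`: the action is trivial. -/
theorem coprime_stab {G : Type*} [Group G] (H A : Subgroup G)
    (hco : (Nat.card A).Coprime (Nat.card H))
    (h : ∀ x ∈ H, ∀ a ∈ A, x⁻¹ * (a * x * a⁻¹) ∈ H ⊓ Subgroup.centralizer ({a} : Set G)) :
    A ≤ Subgroup.centralizer (H : Set G) := by
  intro a ha x hx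
  have hm := h x hx a ha
  exact (stab_step (k := x⁻¹ * (a * x * a⁻¹)) (by group)
    (Subgroup.mem_centralizer_singleton_iff.mp hm.2).symm
    ((hco.coprime_dvd_left (Subgroup.orderOf_dvd_natCard _ ha)).coprime_dvd_right
      (Subgroup.orderOf_dvd_natCard _ hm.1))).symm

end Cfsg.Agent.H42
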