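import Mathlib
import Cfsg.Agent.Coprime.Action
import Cfsg.Agent.Coprime.Abelian
import Cfsg.Agent.Coprime.Centralize
import Cfsg.Agent.PGroups.Commutator
import Cfsg.Agent.H42.Stab

/-!
If a `p`-group `E` normalizes a `p'`-group `Y`, both act on a `p`-group `U` and `Y` centralizes
`C_U(E)`, then `Y` centralizes `U` (`p` odd, by the Baer trick; `p = 2` under a class condition).
-/

set_option autoImplicit false

namespace Cfsg.Agent.H42

open Subgroup
open Cfsg.Agent.PGroups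
open scoped commutatorElement

universe u

/-- The underlying type of the abelian group attached to a group of class two. -/
@[ext] structure BaerPt (U : Type u) : Type u where
  /-- The element. -/
  val : U

/-- The Baer abelian group of a class two group, given an exponent `k` halving all commutators. -/
@[reducible] def baerGroup {U : Type u} [Group U] (k : ℕ) (hc : ∀ x y : U, ⁅x, y⁆ ∈ center U)
    (hk : ∀ x y : U, ⁅x, y⁆ ^ (2 * k) = ⁅x, y⁆) : CommGroup (BaerPt U) where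
  mul x y := ⟨x.val * y.val * ⁅y.val, x.val⁆ ^ k⟩
  one := ⟨1⟩
  inv x := ⟨x.val⁻¹⟩
  mul_assoc x y z := by
    obtain ⟨x⟩ := x; obtain ⟨y⟩ := y; obtain ⟨z⟩ := z
    apply BaerPt.ext
    show x * y * ⁅y, x⁆ ^ k * z * ⁅z, x * y * ⁅y, x⁆ ^ k⁆ ^ k =
      x * (y * z * ⁅z, y⁆ ^ k) * ⁅y * z * ⁅z, y⁆ ^ k, x⁆ ^ k
    have hcp : ∀ a b : U, ⁅a, b⁆ ^ k ∈ center U := fun a b => pow_mem (hc a b) k
    have hcc : ∀ (a b : U) (w : U), ⁅a, b⁆ ^ k * w = w * ⁅a, b⁆ ^ k := fun a b w =>
      (commute_of_mem_center (hcp a b) w).eq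
    have e1 : ⁅z, x * y * ⁅y, x⁆ ^ k⁆ = ⁅z, x⁆ * ⁅z, y⁆ := by
      rw [commutatorElement_mul_right_of_mem_center (hc _ _),
        commutatorElement_mul_right_of_mem_center (hc _ _)]
      rw [commutatorElement_eq_one_iff_mul_comm.mpr (hcc y x z).symm, mul_one]
    have e2 : ⁅y * z * ⁅z, y⁆ ^ k, x⁆ = ⁅y, x⁆ * ⁅z, x⁆ := by
      rw [commutatorElement_mul_left_of_mem_center (hc _ _),
        commutatorElement_mul_left_of_mem_center (hc _ _)]
      rw [commutatorElement_eq_one_iff_mul_comm.mpr (hcc z y x), mul_one]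
    have hcm : ∀ a b c d : U, Commute ⁅a, b⁆ ⁅c, d⁆ := fun a b c d =>
      commute_of_mem_center (hc a b) _
    rw [e1, e2, (hcm z x z y).mul_pow, (hcm y x z x).mul_pow]
    calc x * y * ⁅y, x⁆ ^ k * z * (⁅z, x⁆ ^ k * ⁅z, y⁆ ^ k)
        = x * y * (⁅y, x⁆ ^ k * z) * (⁅z, x⁆ ^ k * ⁅z, y⁆ ^ k) := by group
      _ = x * y * z * (⁅y, x⁆ ^ k * ⁅z, x⁆ ^ k * ⁅z, y⁆ ^ k) := by rw [hcc y x z]; group
      _ = x * y * z * (⁅z, y⁆ ^ k * (⁅y, x⁆ ^ k * ⁅z, x⁆ ^ k)) := by rw [hcc z y]
      _ = x * (y * z * ⁅z, y⁆ ^ k) * (⁅y, x⁆ ^ k * ⁅z, x⁆ ^ k) := by group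
  one_mul x := by
    apply BaerPt.ext
    show 1 * x.val * ⁅x.val, 1⁆ ^ k = x.val
    simp
  mul_one x := by
    apply BaerPt.ext
    show x.val * 1 * ⁅(1 : U), x.val⁆ ^ k = x.val
    simp
  inv_mul_cancel x := by
    apply BaerPt.ext
    show x.val⁻¹ * x.val * ⁅x.val, x.val⁻¹⁆ ^ k = 1
    rw [commutatorElement_eq_one_iff_mul_comm.mpr (by simp)]
    simp
  mul_comm x y := by
    obtain ⟨x⟩ := x; obtain ⟨y⟩ := y
    apply BaerPt.ext
    show x * y * ⁅y, x⁆ ^ k = y * x * ⁅x, y⁆ ^ k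
    have h1 : y * x = x * y * ⁅y, x⁆ := by
      rw [← (commute_of_mem_center (hc y x) (x * y)).eq]
      simp only [commutatorElement_def]
      group
    rw [h1, ← commutatorElement_inv y x, inv_pow, mul_assoc (x * y) ⁅y, x⁆]
    congr 1
    rw [eq_mul_inv_iff_mul_eq, ← pow_add, ← two_mul, hk]

variable {G : Type u} [Group G] [Finite G]

/-- Class two case of `centralizes_of_fixed_le`. -/
theorem centralizes_of_fixed_le_class_two {p : ℕ} [Fact p.Prime] (hp : p ≠ 2)
    {U E Y : Subgroup G} (hU : IsPGroup p U) (hE : IsPGroup p E) (hY : (Nat.card Y).Coprime p)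
    (hEY : E ≤ normalizer (Y : Set G)) (hEU : E ≤ normalizer (U : Set G))
    (hYU : Y ≤ normalizer (U : Set G))
    (hfix : ∀ x ∈ U ⊓ centralizer (E : Set G), orderOf x = p → x ∈ centralizer (Y : Set G))
    (hcen : ∀ x y : U, ⁅x, y⁆ ∈ center U) : Y ≤ centralizer (U : Set G) := by
  classical
  haveI : Fintype Y := Fintype.ofFinite Y
  obtain ⟨n, hn⟩ := IsPGroup.iff_card.mp hU
  have hodd : Odd (Nat.card U) := hn ▸ ((Fact.out : p.Prime).odd_of_ne_two hp).pow
  obtain ⟨m, hm⟩ := hodd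
  have hhalf : ∀ z : U, z ^ (2 * (m + 1)) = z := fun z => by
    rw [show 2 * (m + 1) = Nat.card U + 1 by omega, pow_succ, pow_card_eq_one', one_mul]
  letI : CommGroup (BaerPt U) := baerGroup (m + 1) hcen (fun x y => hhalf _)
  have hmul : ∀ x y : U, (⟨x⟩ : BaerPt U) * ⟨y⟩ = ⟨x * y * ⁅y, x⁆ ^ (m + 1)⟩ := fun _ _ => rfl
  -- automorphisms of `U` act on the abelian group
  let f : MulAut U →* Monoid.End (BaerPt U) :=
    { toFun := fun φ =>
        { toFun := fun a => ⟨φ a.val⟩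
          map_one' := BaerPt.ext (map_one φ)
          map_mul' := fun a b => by
            obtain ⟨a⟩ := a; obtain ⟨b⟩ := b
            rw [hmul, hmul]
            simp only [map_mul, map_pow, map_commutatorElement] }
      map_one' := rfl
      map_mul' := fun _ _ => rfl }
  let φY : Y →* MulAut U := Cfsg.Agent.Coprime.conjOn hYU
  let φE : E →* MulAut U := Cfsg.Agent.Coprime.conjOn hEU
  let N : BaerPt U →* BaerPt U := ∏ y : Y, (f (φY y) : BaerPt U →* BaerPt U)
  have hN : ∀ a, N a = ∏ y : Y, f (φY y) a := fun a => by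
    simp only [N]
    exact MonoidHom.finsetProd_apply _ _ a
  have hNy : ∀ (z : Y) a, N (f (φY z) a) = N a := fun z a => by
    rw [hN, hN]
    refine Fintype.prod_equiv (Equiv.mulRight z) _ _ fun y => ?_
    show f (φY y) (f (φY z) a) = f (φY (y * z)) a
    rw [map_mul φY, map_mul f]; rfl
  have hyN : ∀ (z : Y) a, f (φY z) (N a) = N a := fun z a => by
    rw [hN, map_prod]
    refine Fintype.prod_equiv (Equiv.mulLeft z) _ _ fun y => ?_
    show f (φY z) (f (φY y) a) = f (φY (z * y)) a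
    rw [map_mul φY, map_mul f]; rfl
  have hEN : ∀ (e : E) a, f (φE e) (N a) = N (f (φE e) a) := fun e a => by
    rw [hN, hN, map_prod]
    let c : Y ≃ Y :=
      { toFun := fun y => ⟨(e : G) * (y : G) * (e : G)⁻¹, Cfsg.Agent.Coprime.conj_mem (hEY e.2) y.2⟩
        invFun := fun y => ⟨(e : G)⁻¹ * (y : G) * (e : G), Cfsg.Agent.Coprime.conj_mem' (hEY e.2) y.2⟩
        left_inv := fun y => Subtype.ext (by simp [mul_assoc])
        right_inv := fun y => Subtype.ext (by simp [mul_assoc]) }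
    refine Fintype.prod_equiv c _ _ fun y => ?_
    apply BaerPt.ext
    apply Subtype.ext
    show (e : G) * (y * (a.val : G) * (y : G)⁻¹) * (e : G)⁻¹ =
      ((e : G) * (y : G) * (e : G)⁻¹) * ((e : G) * (a.val : G) * (e : G)⁻¹) *
        ((e : G) * (y : G) * (e : G)⁻¹)⁻¹
    group
  -- the kernel of `N` has no nontrivial element fixed by `Y`
  have hcard : Nat.card (BaerPt U) = p ^ n := by
    rw [← hn]
    exact Nat.card_congr ⟨BaerPt.val, BaerPt.mk, fun _ => rfl, fun _ => rfl⟩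
  haveI : Finite (BaerPt U) := Nat.finite_of_card_ne_zero (by
    rw [hcard]; exact pow_ne_zero _ (Fact.out : p.Prime).ne_zero)
  have hker : ∀ a, N a = 1 → (∀ y, f (φY y) a = a) → a = 1 := by
    intro a ha hfix'
    have h1 : a ^ Nat.card Y = 1 := by
      rw [← ha, hN]
      simp [hfix', Nat.card_eq_fintype_card]
    exact orderOf_eq_one_iff.mp (Nat.eq_one_of_dvd_coprimes (hY.pow_right n)
      (orderOf_dvd_of_pow_eq_one h1) (hcard ▸ orderOf_dvd_natCard a))
  by_contra hne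
  have hker_ne : N.ker ≠ ⊥ := by
    intro h
    refine hne fun y hy x hx => ?_
    have h1 : f (φY ⟨y, hy⟩) ⟨⟨x, hx⟩⟩ = (⟨⟨x, hx⟩⟩ : BaerPt U) :=
      (MonoidHom.ker_eq_bot_iff N).mp h (hNy _ _)
    have h2 : y * x * y⁻¹ = x := congrArg (fun a : BaerPt U => (a.val : G)) h1
    exact (mul_inv_eq_iff_eq_mul.mp h2).symm
  -- `E` fixes a nontrivial point of the kernel
  let _ : MulAction E N.ker :=
    { smul := fun e a => ⟨f (φE e) a, by rw [MonoidHom.mem_ker, ← hEN, a.2, map_one]⟩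
      one_smul := fun a => Subtype.ext (by
        show f (φE 1) (a : BaerPt U) = a
        rw [map_one, map_one]; rfl)
      mul_smul := fun d e a => Subtype.ext (by
        show f (φE (d * e)) (a : BaerPt U) = f (φE d) (f (φE e) a)
        rw [map_mul φE, map_mul f]; rfl) }
  haveI : Nontrivial N.ker := (Subgroup.nontrivial_iff_ne_bot _).mpr hker_ne
  obtain ⟨j, hj, hj'⟩ := ((IsPGroup.of_card hcard).to_subgroup N.ker).nontrivial_iff_card.mp inferInstance
  obtain ⟨a, ha, ha1⟩ := hE.exists_fixed_point_of_prime_dvd_card_of_fixed_point N.ker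
    (by rw [hj']; exact dvd_pow_self p hj.ne') (a := (1 : N.ker))
    (fun e => Subtype.ext (show f (φE e) (1 : BaerPt U) = 1 from map_one _))
  have hpowB : ∀ (x : U) (i : ℕ), (⟨x⟩ : BaerPt U) ^ i = ⟨x ^ i⟩ := by
    intro x i
    induction i with
    | zero => rw [pow_zero, pow_zero]; rfl
    | succ i ih =>
      rw [pow_succ, ih, hmul, pow_succ]
      simp [commutatorElement_eq_one_iff_mul_comm.mpr (Commute.self_pow x i).eq, pow_succ]
  -- a fixed point of order `p`
  obtain ⟨b, hbker, hb1, hbp, hbE⟩ : ∃ b : BaerPt U, b ∈ N.ker ∧ b ≠ 1 ∧ b ^ p = 1 ∧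
      ∀ e : E, f (φE e) b = b := by
    have haB : (a : BaerPt U) ≠ 1 := fun h => ha1 (Subtype.ext h.symm)
    obtain ⟨i, hi, hord⟩ := (Nat.dvd_prime_pow (Fact.out : p.Prime)).mp
      (hcard ▸ orderOf_dvd_natCard (a : BaerPt U))
    have hi0 : i ≠ 0 := fun h => haB (orderOf_eq_one_iff.mp (by rw [hord, h, pow_zero]))
    obtain ⟨i, rfl⟩ := Nat.exists_eq_succ_of_ne_zero hi0
    refine ⟨(a : BaerPt U) ^ p ^ i, pow_mem a.2 _, fun h => ?_, ?_, fun e => ?_⟩
    · have := Nat.le_of_dvd (pow_pos (Fact.out : p.Prime).pos i) (orderOf_dvd_of_pow_eq_one h)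
      rw [hord] at this
      exact absurd this (not_le.mpr (Nat.pow_lt_pow_right (Fact.out : p.Prime).one_lt (Nat.lt_succ_self i)))
    · rw [← pow_mul, ← pow_succ, ← hord, pow_orderOf_eq_one]
    · rw [map_pow]
      exact congrArg (· ^ p ^ i) (congrArg Subtype.val (ha e))
  apply hb1
  have hord' : orderOf ((b.val : U) : G) = p := by
    refine orderOf_eq_prime ?_ fun h => hb1 (BaerPt.ext (Subtype.ext h))
    have := congrArg (fun c : BaerPt U => ((c.val : U) : G)) (hpowB b.val p ▸ hbp)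
    simpa [show (1 : BaerPt U).val = (1 : U) from rfl] using this
  have hmem : ((b.val : U) : G) ∈ U ⊓ centralizer (E : Set G) := by
    refine ⟨b.val.2, fun e he => ?_⟩
    have h2 := congrArg (fun c : BaerPt U => ((c.val : U) : G)) (hbE ⟨e, he⟩)
    exact mul_inv_eq_iff_eq_mul.mp h2
  refine hker _ hbker fun y => BaerPt.ext (Subtype.ext ?_)
  show (y : G) * (b.val : G) * (y : G)⁻¹ = (b.val : G)
  exact mul_inv_eq_iff_eq_mul.mpr (hfix _ hmem hord' y y.2)

omit [Finite G] in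
theorem le_normalizer_commutator {A H K : Subgroup G} (hH : A ≤ normalizer (H : Set G))
    (hK : A ≤ normalizer (K : Set G)) : A ≤ normalizer ((⁅H, K⁆ : Subgroup G) : Set G) := by
  rw [le_normalizer_iff]
  intro a ha x hx
  have h := mem_map_of_mem (MulAut.conj a).toMonoidHom hx
  rw [map_commutator, Cfsg.Agent.Coprime.map_conj_eq (hH ha),
    Cfsg.Agent.Coprime.map_conj_eq (hK ha)] at h
  exact h

/-- `p` odd: if `Y` centralizes the fixed points of order `p` of `E` on `U` then it centralizes `U`. -/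
theorem centralizes_of_omega_fixed_le {p : ℕ} [Fact p.Prime] (hp : p ≠ 2) {E Y : Subgroup G}
    (hE : IsPGroup p E) (hY : (Nat.card Y).Coprime p) (hEY : E ≤ normalizer (Y : Set G)) :
    ∀ U : Subgroup G, IsPGroup p U → E ≤ normalizer (U : Set G) → Y ≤ normalizer (U : Set G) →
      (∀ x ∈ U ⊓ centralizer (E : Set G), orderOf x = p → x ∈ centralizer (Y : Set G)) →
        Y ≤ centralizer (U : Set G) := by
  intro U
  induction U using WellFoundedLT.induction with
  | ind U ih =>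
    intro hU hEU hYU hfix
    have hcop : (Nat.card Y).Coprime (Nat.card U) := by
      obtain ⟨n, hn⟩ := IsPGroup.iff_card.mp hU
      rw [hn]; exact hY.pow_right n
    by_cases hne : U = ⊥
    · subst hne
      rw [← commutator_eq_bot_iff_le_centralizer, commutator_bot_right]
    have hsub : ∀ W : Subgroup G, W < U → E ≤ normalizer (W : Set G) →
        Y ≤ normalizer (W : Set G) → Y ≤ centralizer (W : Set G) := fun W hW hEW hYW =>
      ih W hW (hU.to_le hW.le) hEW hYW (fun x hx => hfix x (inf_le_inf_right _ hW.le hx))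
    rcases lt_or_eq_of_le (Cfsg.Agent.Coprime.commutator_le_left_of_normalizer hYU) with hlt | heq
    · exact Cfsg.Agent.Coprime.le_centralizer_of_commutator_le hYU hcop le_rfl
        (hsub _ hlt (le_normalizer_commutator hEU hEY) (le_normalizer_commutator hYU le_normalizer))
    · have hUU : U ≤ normalizer (U : Set G) := le_normalizer
      have hlt : ⁅U, U⁆ < U := Cfsg.Agent.Coprime.commutator_lt_of_isPGroup hU hU hUU hne
      have hc := hsub _ hlt (le_normalizer_commutator hEU hEU) (le_normalizer_commutator hYU hYU)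
      have h1 : ⁅⁅⁅U, U⁆, Y⁆, U⁆ = ⊥ := by
        rw [commutator_comm ⁅U, U⁆ Y, commutator_eq_bot_iff_le_centralizer.mpr hc,
          commutator_bot_left]
      have h2 : ⁅⁅Y, U⁆, ⁅U, U⁆⁆ = ⊥ := by
        refine commutator_commutator_eq_bot_of_rotate ?_ h1
        rw [commutator_comm, commutator_eq_bot_iff_le_centralizer]
        refine hc.trans (centralizer_le ?_)
        exact Cfsg.Agent.Coprime.commutator_le_left_of_normalizer
          (le_normalizer_commutator hUU hUU) |>.trans' (commutator_comm_le _ _)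
      rw [commutator_comm Y U, heq] at h2
      have hcen : ∀ x y : U, ⁅x, y⁆ ∈ center U := fun x y => by
        rw [Subgroup.mem_center_iff]
        intro z
        apply Subtype.ext
        show (z : G) * U.subtype ⁅x, y⁆ = U.subtype ⁅x, y⁆ * (z : G)
        rw [map_commutatorElement]
        have h4 : (⁅(x : G), (y : G)⁆ : G) ∈ ⁅U, U⁆ := commutator_mem_commutator x.2 y.2
        have h5 := (commutator_eq_bot_iff_le_centralizer.mp h2) z.2 _ h4
        exact h5.symm
      exact centralizes_of_fixed_le_class_two hp hU hE hY hEY hEU hYU hfix hcen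

/-- `p` odd: if `Y` centralizes the fixed points of `E` on `U` then it centralizes `U`. -/
theorem centralizes_of_fixed_le {p : ℕ} [Fact p.Prime] (hp : p ≠ 2) {E Y : Subgroup G}
    (hE : IsPGroup p E) (hY : (Nat.card Y).Coprime p) (hEY : E ≤ normalizer (Y : Set G))
    (U : Subgroup G) (hU : IsPGroup p U) (hEU : E ≤ normalizer (U : Set G))
    (hYU : Y ≤ normalizer (U : Set G))
    (hfix : U ⊓ centralizer (E : Set G) ≤ centralizer (Y : Set G)) :
    Y ≤ centralizer (U : Set G) :=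
  centralizes_of_omega_fixed_le hp hE hY hEY U hU hEU hYU fun _ hx _ => hfix hx

/-- The variant for `p = 2`: commutators of `U` with `E` are fixed by `E`. -/
theorem centralizes_of_fixed_le_two {p : ℕ} [Fact p.Prime] {E Y U : Subgroup G}
    (hE : IsPGroup p E) (hY : (Nat.card Y).Coprime p) (hEY : E ≤ normalizer (Y : Set G))
    (hU : IsPGroup p U) (hEU : E ≤ normalizer (U : Set G)) (hYU : Y ≤ normalizer (U : Set G))
    (hfix : U ⊓ centralizer (E : Set G) ≤ centralizer (Y : Set G))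
    (hcl : ∀ x ∈ U, ∀ e ∈ E, x⁻¹ * (e * x * e⁻¹) ∈ centralizer (E : Set G)) :
    Y ≤ centralizer (U : Set G) := by
  have hd : ∀ x ∈ U, ∀ e ∈ E, x⁻¹ * (e * x * e⁻¹) ∈ U ∧
      (∀ y ∈ Y, y * (x⁻¹ * (e * x * e⁻¹)) = x⁻¹ * (e * x * e⁻¹) * y) ∧
      e * (x⁻¹ * (e * x * e⁻¹)) * e⁻¹ = x⁻¹ * (e * x * e⁻¹) := by
    intro x hx e he
    have hm : x⁻¹ * (e * x * e⁻¹) ∈ U :=
      mul_mem (inv_mem hx) (Cfsg.Agent.Coprime.conj_mem (hEU he) hx)
    exact ⟨hm, fun y hy => hfix ⟨hm, hcl x hx e he⟩ y hy,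
      mul_inv_eq_iff_eq_mul.mpr (hcl x hx e he e he)⟩
  -- `[Y, E]` centralizes `U`
  have hkey : ∀ z ∈ Y, ∀ e ∈ E, z⁻¹ * (e * z * e⁻¹) ∈ centralizer (U : Set G) := by
    intro z hz e he x hx
    obtain ⟨c, hcdef⟩ : ∃ c, c = x⁻¹ * (e⁻¹ * x * e⁻¹⁻¹) := ⟨_, rfl⟩
    have hcU := hd x hx e⁻¹ (inv_mem he)
    have hx' : z * x * z⁻¹ ∈ U := Cfsg.Agent.Coprime.conj_mem (hYU hz) hx
    obtain ⟨d, hddef⟩ : ∃ d, d = (z * x * z⁻¹)⁻¹ * (e * (z * x * z⁻¹) * e⁻¹) := ⟨_, rfl⟩
    have hdU := hd _ hx' e he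
    rw [← hcdef] at hcU
    rw [← hddef] at hdU
    have hec : e * c * e⁻¹ = c := mul_inv_eq_iff_eq_mul.mpr
      (hcdef ▸ hcl x hx e⁻¹ (inv_mem he) e he)
    have hzc : z * c * z⁻¹ = c := mul_inv_eq_iff_eq_mul.mpr (hcU.2.1 z hz)
    obtain ⟨g, hgdef⟩ : ∃ g, g = z⁻¹ * (e * z * e⁻¹) := ⟨_, rfl⟩
    rw [← hgdef]
    have hgY : g ∈ Y := hgdef ▸ mul_mem (inv_mem hz) (Cfsg.Agent.Coprime.conj_mem (hEY he) hz)
    have hzdc : z⁻¹ * (d * c) * z = d * c := by
      have : z * (d * c) = d * c * z := by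
        rw [← mul_assoc, hdU.2.1 z hz, mul_assoc, hcU.2.1 z hz, mul_assoc]
      rw [mul_assoc, ← this, inv_mul_cancel_left]
    have hgx : g * x * g⁻¹ = x * (d * c) := by
      calc g * x * g⁻¹ = z⁻¹ * (e * (z * (x * c) * z⁻¹) * e⁻¹) * z := by
            rw [hgdef, hcdef]; group
        _ = z⁻¹ * (e * (z * x * z⁻¹) * e⁻¹ * (e * (z * c * z⁻¹) * e⁻¹)) * z := by group
        _ = z⁻¹ * ((z * x * z⁻¹) * d * c) * z := by rw [hzc, hec, hddef]; group
        _ = x * (z⁻¹ * (d * c) * z) := by group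
        _ = x * (d * c) := by rw [hzdc]
    refine (stab_step hgx ?_ ?_).symm
    · rw [← mul_assoc, hdU.2.1 g hgY, mul_assoc, hcU.2.1 g hgY, mul_assoc]
    · obtain ⟨n, hn⟩ := IsPGroup.iff_card.mp hU
      refine ((hY.pow_right n).coprime_dvd_left (Subgroup.orderOf_dvd_natCard _ hgY)).coprime_dvd_right ?_
      rw [← hn]
      exact Subgroup.orderOf_dvd_natCard _ (mul_mem hdU.1 hcU.1)
  have hYE : ⁅Y, E⁆ ≤ centralizer (U : Set G) := by
    rw [commutator_le]
    intro y hy e he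
    have := hkey y⁻¹ (inv_mem hy) e he
    rw [inv_inv] at this
    convert this using 1
    rw [commutatorElement_def]; group
  have hQ : Y ⊓ centralizer (E : Set G) ≤ centralizer (U : Set G) := by
    refine Cfsg.Agent.Coprime.thompson_AxB hE (hY.coprime_dvd_left (card_dvd_of_le inf_le_left))
      (le_centralizer_iff.mp inf_le_right) U hU hEU (inf_le_left.trans hYU)
      (hfix.trans (centralizer_le inf_le_left))
  have hcop : (Nat.card E).Coprime (Nat.card Y) := by
    obtain ⟨n, hn⟩ := IsPGroup.iff_card.mp hE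
    rw [hn]; exact (hY.pow_right n).symm
  haveI := hE.isNilpotent
  have hs := Cfsg.Agent.Coprime.commutator_sup_centralizer hEY hcop (Or.inl inferInstance)
  exact hs ▸ sup_le hYE hQ

end Cfsg.Agent.H42
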