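import Mathlib
import Cfsg.Agent.Cores.Constrained
import Cfsg.Agent.H42.FixedLift

/-!
In a `p`-constrained group, a `p'`-subgroup normalized by an abelian `p`-subgroup that contains all
`p`-elements of its centralizer lies in the `p'`-core (class at most two assumed when `p = 2`).
-/

set_option autoImplicit false

namespace Cfsg.Agent.H42

open Subgroup
open Cfsg
open scoped commutatorElement

variable {G : Type*} [Group G] [Finite G] {p : ℕ} [Fact p.Prime]

/-- A power of `g` that is a `p`-element and has the same image as `g` in any group where that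
image is a `p`-element. -/
theorem exists_pPart (g : G) : ∃ k : ℕ, IsPGroup p (zpowers (g ^ k)) ∧
    ∀ (Q : Type*) [Group Q] (f : G →* Q) (m : ℕ), f g ^ p ^ m = 1 → f g ^ k = f g := by
  have hpr : p.Prime := Fact.out
  obtain ⟨a, r, hr, hn⟩ := Nat.exists_eq_pow_mul_and_not_dvd (orderOf_pos g).ne' p hpr.ne_one
  have hco : (p ^ a).Coprime r := (hpr.coprime_iff_not_dvd.mpr hr).pow_left a
  obtain ⟨k, hk1, hk0⟩ := Nat.chineseRemainder hco 1 0
  refine ⟨k, ?_, fun Q _ f m hm => ?_⟩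
  · have h1 : (g ^ k) ^ p ^ a = 1 := by
      rw [← pow_mul, ← orderOf_dvd_iff_pow_eq_one, hn, mul_comm k]
      exact Nat.mul_dvd_mul_left _ (Nat.modEq_zero_iff_dvd.mp hk0)
    obtain ⟨j, -, hj⟩ := (Nat.dvd_prime_pow hpr).mp (orderOf_dvd_of_pow_eq_one h1)
    exact IsPGroup.of_card (by rw [Nat.card_zpowers, hj])
  · have h1 : orderOf (f g) ∣ p ^ a := by
      have h2 : orderOf (f g) ∣ p ^ a * r := hn ▸ orderOf_map_dvd f g
      refine Nat.Coprime.dvd_of_dvd_mul_right ?_ h2
      exact ((hpr.coprime_iff_not_dvd.mpr hr).pow_left m).coprime_dvd_left (orderOf_dvd_of_pow_eq_one hm)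
    have : f g ^ k = f g ^ 1 := pow_eq_pow_iff_modEq.mpr (Nat.ModEq.of_dvd h1 hk1)
    simpa using this

/-- The class two condition passes to the image in a quotient. -/
theorem classTwo_quotient (N : Subgroup G) [N.Normal]
    (h : ∀ S : Subgroup G, IsPGroup p S → ⁅⁅S, S⁆, S⁆ = ⊥) :
    ∀ T : Subgroup (G ⧸ N), IsPGroup p T → ⁅⁅T, T⁆, T⁆ = ⊥ := by
  intro T hT
  let T' := T.comap (QuotientGroup.mk' N)
  obtain ⟨P⟩ : Nonempty (Sylow p T') := inferInstance
  let f := (QuotientGroup.mk' N).subgroupComap T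
  have hf : Function.Surjective f := by
    rintro ⟨y, hy⟩
    obtain ⟨x, rfl⟩ := QuotientGroup.mk'_surjective N y
    exact ⟨⟨x, hy⟩, rfl⟩
  have hP : ((P : Subgroup T').map f) = ⊤ := by
    refine eq_top_of_card_eq _ (Nat.dvd_antisymm (card_subgroup_dvd_card _) ?_)
    have h1 := (P.mapSurjective hf).card_eq_multiplicity
    obtain ⟨k, hk⟩ := IsPGroup.iff_card.mp hT
    rw [Sylow.coe_mapSurjective, hk, Nat.Prime.factorization_pow (Fact.out : p.Prime),
      Finsupp.single_eq_same] at h1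
    rw [h1, hk]
  have hmap : (((P : Subgroup T').map T'.subtype)).map (QuotientGroup.mk' N) = T := by
    have := congrArg (Subgroup.map T.subtype) hP
    rw [Subgroup.map_map, ← MonoidHom.range_eq_map, range_subtype] at this
    rw [Subgroup.map_map]
    exact this
  rw [← hmap, ← map_commutator, ← map_commutator, h _ (P.isPGroup'.map _), Subgroup.map_bot]

theorem le_pPrimeCore_of_invariant (hcon : IsPConstrained p G) (E Y : Subgroup G)
    (hEp : IsPGroup p E)
    (hEfull : ∀ x ∈ centralizer (E : Set G), IsPGroup p (zpowers x) → x ∈ E)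
    (hEY : E ≤ normalizer (Y : Set G)) (hY : (Nat.card Y).Coprime p)
    (h2 : p = 2 → ∀ S : Subgroup G, IsPGroup p S → ⁅⁅S, S⁆, S⁆ = ⊥) :
    Y ≤ pPrimeCore p G := by
  set N := pPrimeCore p G with hN
  set q := QuotientGroup.mk' N with hq
  set R := pCore p (G ⧸ N) with hR
  have hRC : centralizer (R : Set (G ⧸ N)) ≤ R := Cfsg.Agent.Cores.isPConstrained_iff.mp hcon
  set E' := E.map q with hE'
  set Y' := Y.map q with hY'def
  have hE'p : IsPGroup p E' := hEp.map q
  have hRp : IsPGroup p R := Cfsg.Agent.Cores.pCore_isPGroup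
  have hY'cop : (Nat.card Y').Coprime p := hY.coprime_dvd_left (card_map_dvd Y q)
  have hE'Y' : E' ≤ normalizer (Y' : Set (G ⧸ N)) :=
    (Subgroup.map_mono hEY).trans (le_normalizer_map q)
  have hRn : ∀ X : Subgroup (G ⧸ N), X ≤ normalizer (R : Set (G ⧸ N)) := fun X =>
    (Subgroup.normalizer_eq_top_iff.mpr (pCore_normal p (G ⧸ N))).symm ▸ le_top
  have hdisj : R ⊓ Y' = ⊥ := Cfsg.Agent.Cores.disjoint_of_isPGroup_of_coprime hRp hY'cop
  have hfix : R ⊓ centralizer (E' : Set (G ⧸ N)) ≤ centralizer (Y' : Set (G ⧸ N)) := by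
    rintro x ⟨hxR, hxC⟩
    have hxE : x ∈ E' := by
      have hxC' : x ∈ (centralizer (E : Set G)).map q := by
        rw [Cfsg.Agent.Cores.map_centralizer_of_coprime N Cfsg.Agent.Cores.coprime_card_pPrimeCore hEp]
        exact hxC
      obtain ⟨u, hu, rfl⟩ := hxC'
      obtain ⟨k, hk, hk'⟩ := exists_pPart (p := p) u
      obtain ⟨m, hm⟩ := hRp ⟨q u, hxR⟩
      rw [← hk' _ q m (by simpa using congrArg Subtype.val hm), ← map_pow]
      exact mem_map_of_mem q (hEfull _ (pow_mem hu k) hk)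
    intro y hy
    have hmem : y * x * y⁻¹ * x⁻¹ ∈ R ⊓ Y' := by
      refine ⟨R.mul_mem ((pCore_normal p (G ⧸ N)).conj_mem x hxR y) (R.inv_mem hxR), ?_⟩
      rw [show y * x * y⁻¹ * x⁻¹ = y * (x * y⁻¹ * x⁻¹) by group]
      exact Y'.mul_mem hy (Cfsg.Agent.Coprime.conj_mem (hE'Y' hxE) (Y'.inv_mem hy))
    rw [hdisj, mem_bot, mul_inv_eq_one, mul_inv_eq_iff_eq_mul] at hmem
    exact hmem
  have hcent : Y' ≤ centralizer (R : Set (G ⧸ N)) := by
    by_cases hp2 : p = 2
    · refine centralizes_of_fixed_le_two hE'p hY'cop hE'Y' hRp (hRn _) (hRn _) hfix ?_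
      intro x hx e he
      have hT : IsPGroup p ↥(E' ⊔ R) := hE'p.to_sup_of_normal_right hRp
      have hcl := classTwo_quotient N (h2 hp2) _ hT
      rw [commutator_eq_bot_iff_le_centralizer] at hcl
      refine centralizer_le (le_sup_left : E' ≤ E' ⊔ R) (hcl ?_)
      have := commutator_mem_commutator ((le_sup_right : R ≤ E' ⊔ R) (R.inv_mem hx))
        ((le_sup_left : E' ≤ E' ⊔ R) he)
      rw [show x⁻¹ * (e * x * e⁻¹) = ⁅x⁻¹, e⁆ by rw [commutatorElement_def]; group]
      exact this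
    · exact centralizes_of_fixed_le hp2 hE'p hY'cop hE'Y' R hRp (hRn _) (hRn _) hfix
  have hbot : Y' = ⊥ := le_bot_iff.mp (hdisj ▸ le_inf (hcent.trans hRC) le_rfl)
  rw [hY'def, Subgroup.map_eq_bot_iff, hq, QuotientGroup.ker_mk'] at hbot
  exact hbot

/-- `p` odd: it is enough that `E` contains the elements of order `p` of its centralizer. -/
theorem le_pPrimeCore_of_invariant_odd (hcon : IsPConstrained p G) (E Y : Subgroup G)
    (hEp : IsPGroup p E)
    (hEfull : ∀ x ∈ centralizer (E : Set G), orderOf x = p → x ∈ E)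
    (hEY : E ≤ normalizer (Y : Set G)) (hY : (Nat.card Y).Coprime p)
    (hp2 : p ≠ 2) :
    Y ≤ pPrimeCore p G := by
  set N := pPrimeCore p G with hN
  set q := QuotientGroup.mk' N with hq
  set R := pCore p (G ⧸ N) with hR
  have hRC : centralizer (R : Set (G ⧸ N)) ≤ R := Cfsg.Agent.Cores.isPConstrained_iff.mp hcon
  set E' := E.map q with hE'
  set Y' := Y.map q with hY'def
  have hE'p : IsPGroup p E' := hEp.map q
  have hRp : IsPGroup p R := Cfsg.Agent.Cores.pCore_isPGroup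
  have hY'cop : (Nat.card Y').Coprime p := hY.coprime_dvd_left (card_map_dvd Y q)
  have hE'Y' : E' ≤ normalizer (Y' : Set (G ⧸ N)) :=
    (Subgroup.map_mono hEY).trans (le_normalizer_map q)
  have hRn : ∀ X : Subgroup (G ⧸ N), X ≤ normalizer (R : Set (G ⧸ N)) := fun X =>
    (Subgroup.normalizer_eq_top_iff.mpr (pCore_normal p (G ⧸ N))).symm ▸ le_top
  have hdisj : R ⊓ Y' = ⊥ := Cfsg.Agent.Cores.disjoint_of_isPGroup_of_coprime hRp hY'cop
  have hfix : ∀ x ∈ R ⊓ centralizer (E' : Set (G ⧸ N)), orderOf x = p →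
      x ∈ centralizer (Y' : Set (G ⧸ N)) := by
    rintro x ⟨hxR, hxC⟩ hxp
    have hxE : x ∈ E' := by
      have hxC' : x ∈ (centralizer (E : Set G)).map q := by
        rw [Cfsg.Agent.Cores.map_centralizer_of_coprime N Cfsg.Agent.Cores.coprime_card_pPrimeCore hEp]
        exact hxC
      obtain ⟨u, hu, rfl⟩ := hxC'
      obtain ⟨k, hk, hk'⟩ := exists_pPart (p := p) u
      have hpow : q u ^ p ^ 1 = 1 := by
        rw [pow_one]; exact orderOf_dvd_iff_pow_eq_one.mp hxp.dvd
      have hqk : q (u ^ k) = q u := by rw [map_pow, hk' _ q 1 hpow]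
      rw [← hqk]
      refine mem_map_of_mem q (hEfull _ (pow_mem hu k) (orderOf_eq_prime ?_ fun h => ?_))
      · have h1 : (u ^ k) ^ p ∈ N := by
          rw [hq] at hqk hpow
          rw [← QuotientGroup.eq_one_iff, ← QuotientGroup.mk'_apply, map_pow, hqk]
          simpa using hpow
        have h3 : (u ^ k) ^ p ∈ zpowers (u ^ k) ⊓ N := ⟨pow_mem (mem_zpowers _) p, h1⟩
        rw [Cfsg.Agent.Cores.disjoint_of_isPGroup_of_coprime hk Cfsg.Agent.Cores.coprime_card_pPrimeCore,
          mem_bot] at h3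
        exact h3
      · rw [← hqk, h, map_one, orderOf_one] at hxp
        exact (Fact.out : p.Prime).ne_one hxp.symm
    intro y hy
    have hmem : y * x * y⁻¹ * x⁻¹ ∈ R ⊓ Y' := by
      refine ⟨R.mul_mem ((pCore_normal p (G ⧸ N)).conj_mem x hxR y) (R.inv_mem hxR), ?_⟩
      rw [show y * x * y⁻¹ * x⁻¹ = y * (x * y⁻¹ * x⁻¹) by group]
      exact Y'.mul_mem hy (Cfsg.Agent.Coprime.conj_mem (hE'Y' hxE) (Y'.inv_mem hy))
    rw [hdisj, mem_bot, mul_inv_eq_one, mul_inv_eq_iff_eq_mul] at hmem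
    exact hmem
  have hcent : Y' ≤ centralizer (R : Set (G ⧸ N)) :=
    centralizes_of_omega_fixed_le hp2 hE'p hY'cop hE'Y' R hRp (hRn _) (hRn _) hfix
  have hbot : Y' = ⊥ := le_bot_iff.mp (hdisj ▸ le_inf (hcent.trans hRC) le_rfl)
  rw [hY'def, Subgroup.map_eq_bot_iff, hq, QuotientGroup.ker_mk'] at hbot
  exact hbot

end Cfsg.Agent.H42
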