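import Mathlib
import Cfsg.Prelude.Def_OddOrderChar

/-!
Elementary consequences of the Dade hypothesis (no character theory).
-/

set_option autoImplicit false

namespace Cfsg.Agent.H42

open Cfsg

/-- An exponent that is `1` on orders dividing `n` and `0` on orders dividing `m`. -/
theorem exists_exponent {n m : ℕ} (h : Nat.Coprime n m) :
    ∃ k : ℕ, ∀ (G : Type*) [Group G] (g : G),
      (orderOf g ∣ n → g ^ k = g) ∧ (orderOf g ∣ m → g ^ k = 1) := by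
  obtain ⟨k, hk1, hk0⟩ := Nat.chineseRemainder h 1 0
  refine ⟨k, fun G _ g => ⟨fun hg => ?_, fun hg => ?_⟩⟩
  · have : g ^ k = g ^ 1 := pow_eq_pow_iff_modEq.mpr (Nat.ModEq.of_dvd hg hk1)
    simpa using this
  · exact orderOf_dvd_iff_pow_eq_one.mp (hg.trans (Nat.modEq_zero_iff_dvd.mp hk0))

/-- Powers of `h * g`, with `h` commuting with `g`. -/
theorem pow_mul_of_comm {G : Type*} [Group G] {g h : G} (hc : h * g = g * h) {k : ℕ}
    (hg : g ^ k = g) (hh : h ^ k = 1) : (g * h) ^ k = g := by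
  rw [(show Commute g h from hc.symm).mul_pow, hg, hh, mul_one]

theorem conj_pow' {G : Type*} [Group G] (x g : G) (k : ℕ) :
    (x * g * x⁻¹) ^ k = x * g ^ k * x⁻¹ := conj_pow

theorem mem_cent {G : Type*} [Group G] {g a : G} :
    g ∈ Subgroup.centralizer ({a} : Set G) ↔ g * a = a * g := by
  rw [Subgroup.mem_centralizer_singleton_iff]

theorem mem_cent_conj {G : Type*} [Group G] {g a : G} :
    g ∈ Subgroup.centralizer ({a} : Set G) ↔ g * a * g⁻¹ = a := by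
  rw [mem_cent, mul_inv_eq_iff_eq_mul]

variable {G : Type*} [Group G] [Finite G] {A : Set G} {L : Subgroup G} {H : G → Subgroup G}

theorem dade_comm (hD : DadeHypothesis A L H) {a u : G} (ha : a ∈ A) (hu : u ∈ H a) :
    u * a = a * u :=
  mem_cent.mp (hD.le_centralizer a ha hu)

theorem dade_orderOf_dvd (hD : DadeHypothesis A L H) {a : G} (ha : a ∈ A) :
    orderOf a ∣ Nat.card ↥(L ⊓ Subgroup.centralizer ({a} : Set G)) :=
  Subgroup.orderOf_dvd_natCard _ ⟨hD.subset ha, mem_cent.mpr rfl⟩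

theorem dade_coset_pow (hD : DadeHypothesis A L H) {a b : G} (ha : a ∈ A) (hb : b ∈ A) :
    ∃ k : ℕ, (∀ u ∈ H a, (a * u) ^ k = a) ∧ (∀ u ∈ H b, (b * u) ^ k = b) ∧
      a ^ k = a ∧ b ^ k = b := by
  have hco : Nat.Coprime
      (Nat.card ↥(L ⊓ Subgroup.centralizer ({a} : Set G)) *
        Nat.card ↥(L ⊓ Subgroup.centralizer ({b} : Set G)))
      (Nat.card (H a) * Nat.card (H b)) :=
    Nat.Coprime.mul_left
      (Nat.Coprime.mul_right (hD.coprime a ha a ha).symm (hD.coprime b hb a ha).symm)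
      (Nat.Coprime.mul_right (hD.coprime a ha b hb).symm (hD.coprime b hb b hb).symm)
  obtain ⟨k, hk⟩ := exists_exponent hco
  have hak : a ^ k = a := (hk G a).1 ((dade_orderOf_dvd hD ha).trans (Dvd.intro _ rfl))
  have hbk : b ^ k = b := (hk G b).1 ((dade_orderOf_dvd hD hb).trans (Dvd.intro_left _ rfl))
  exact ⟨k,
    fun u hu => pow_mul_of_comm (dade_comm hD ha hu) hak
      ((hk G u).2 ((Subgroup.orderOf_dvd_natCard _ hu).trans (Dvd.intro _ rfl))),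
    fun u hu => pow_mul_of_comm (dade_comm hD hb hu) hbk
      ((hk G u).2 ((Subgroup.orderOf_dvd_natCard _ hu).trans (Dvd.intro_left _ rfl))),
    hak, hbk⟩

theorem dade_conj_eq_of_coset (hD : DadeHypothesis A L H) {a b u v g : G} (ha : a ∈ A) (hb : b ∈ A)
    (hu : u ∈ H a) (hv : v ∈ H b) (h : g * (a * u) * g⁻¹ = b * v) : g * a * g⁻¹ = b := by
  obtain ⟨k, hka, hkb, -, -⟩ := dade_coset_pow hD ha hb
  have := congrArg (fun z : G => z ^ k) h
  simp only [conj_pow', hka u hu, hkb v hv] at this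
  exact this

theorem dade_conj_H_le (hD : DadeHypothesis A L H) {a x : G} (ha : a ∈ A) (hx : x ∈ L) {u : G}
    (hu : u ∈ H a) : x * u * x⁻¹ ∈ H (x * a * x⁻¹) := by
  set b := x * a * x⁻¹ with hbdef
  have hb : b ∈ A := hD.conj_mem x hx a ha
  have huc : x * u * x⁻¹ ∈ Subgroup.centralizer ({b} : Set G) := by
    have hc := dade_comm hD ha hu
    rw [mem_cent, hbdef]
    calc x * u * x⁻¹ * (x * a * x⁻¹) = x * (u * a) * x⁻¹ := by group
      _ = x * (a * u) * x⁻¹ := by rw [hc]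
      _ = x * a * x⁻¹ * (x * u * x⁻¹) := by group
  set C := L ⊓ Subgroup.centralizer ({b} : Set G) with hC
  have hmem : x * u * x⁻¹ ∈ H b ⊔ C := by rw [hC, hD.sup_eq b hb]; exact huc
  have hnorm : C ≤ Subgroup.normalizer (H b : Set G) := by
    intro c hc n
    refine ⟨fun hn => hD.conj_mem_H b hb c hc.2 n hn, fun hn => ?_⟩
    have := hD.conj_mem_H b hb c⁻¹ (inv_mem hc.2) _ hn
    simpa [mul_assoc] using this
  rw [← SetLike.mem_coe, Subgroup.coe_mul_of_right_le_normalizer_left _ _ hnorm, Set.mem_mul] at hmem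
  obtain ⟨h, hh, c, hc, heq⟩ := hmem
  suffices c = 1 by rw [← heq, this, mul_one]; exact hh
  obtain ⟨n, hn⟩ : ∃ n, n = Nat.card (H a) := ⟨_, rfl⟩
  have hpow : ∀ m : ℕ, ∃ h' ∈ H b, (h * c) ^ m = h' * c ^ m := by
    intro m
    induction m with
    | zero => exact ⟨1, one_mem _, by simp⟩
    | succ m ih =>
      obtain ⟨h', hh', hm⟩ := ih
      refine ⟨h' * (c ^ m * h * (c ^ m)⁻¹),
        mul_mem hh' (((hnorm (pow_mem hc m)) h).mp hh), ?_⟩
      rw [pow_succ, hm, pow_succ]; group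
  obtain ⟨h', hh', hm⟩ := hpow n
  have hu1 : u ^ n = 1 :=
    orderOf_dvd_iff_pow_eq_one.mp (hn ▸ Subgroup.orderOf_dvd_natCard _ hu)
  rw [heq, conj_pow', hu1] at hm
  have hcn : c ^ n ∈ H b := by
    have : c ^ n = h'⁻¹ := by
      rw [eq_inv_iff_mul_eq_one, ← mul_eq_one_comm]; simpa using hm.symm
    rw [this]; exact inv_mem hh'
  have hcn1 : c ^ n = 1 := by
    have h2 : c ^ n ∈ H b ⊓ C := ⟨hcn, pow_mem hc n⟩
    rw [hC, hD.inf_eq_bot b hb] at h2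
    exact h2
  have h1 : orderOf c ∣ Nat.card (H a) := hn ▸ orderOf_dvd_of_pow_eq_one hcn1
  have h2 : orderOf c ∣ Nat.card ↥C := Subgroup.orderOf_dvd_natCard _ hc
  exact orderOf_eq_one_iff.mp
    (Nat.eq_one_of_dvd_coprimes (hD.coprime a ha b hb) h1 h2)

theorem dade_conj_H (hD : DadeHypothesis A L H) {a x : G} (ha : a ∈ A) (hx : x ∈ L) :
    H (x * a * x⁻¹) = (H a).map (MulAut.conj x).toMonoidHom := by
  ext u
  constructor
  · intro hu
    have := dade_conj_H_le hD (hD.conj_mem x hx a ha) (inv_mem hx) hu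
    have e : x⁻¹ * (x * a * x⁻¹) * x⁻¹⁻¹ = a := by group
    rw [e] at this
    exact ⟨_, this, by simp [mul_assoc]⟩
  · rintro ⟨v, hv, rfl⟩
    simpa using dade_conj_H_le hD ha hx hv

theorem dade_normalizer_coset (hD : DadeHypothesis A L H) {a : G} (ha : a ∈ A) :
    Subgroup.normalizer ((fun u : G => a * u) '' (H a : Set G)) =
      Subgroup.centralizer ({a} : Set G) := by
  have key : ∀ c ∈ Subgroup.centralizer ({a} : Set G),
      ∀ n ∈ (fun u : G => a * u) '' (H a : Set G),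
        c * n * c⁻¹ ∈ (fun u : G => a * u) '' (H a : Set G) := by
    rintro c hc _ ⟨u, hu, rfl⟩
    refine ⟨c * u * c⁻¹, hD.conj_mem_H a ha c hc u hu, ?_⟩
    have h := mem_cent_conj.mp hc
    calc a * (c * u * c⁻¹) = (c * a * c⁻¹) * (c * u * c⁻¹) := by rw [h]
      _ = c * (a * u) * c⁻¹ := by group
  apply le_antisymm
  · intro c hc
    obtain ⟨u, hu, he⟩ := (hc a).mp ⟨1, one_mem _, mul_one a⟩
    have he' : c * (a * 1) * c⁻¹ = a * u := by rw [mul_one]; exact he.symm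
    exact mem_cent_conj.mpr (dade_conj_eq_of_coset hD ha ha (one_mem _) hu he')
  · intro c hc n
    refine ⟨key c hc n, fun h => ?_⟩
    have := key c⁻¹ (inv_mem hc) _ h
    simpa [mul_assoc] using this

/-- The conjugators carrying `g` into some coset `a H(a)` number `|L| |H(a₀)|`. -/
theorem dade_conjugators (hD : DadeHypothesis A L H) {a₀ u₀ x₀ g : G} (ha₀ : a₀ ∈ A)
    (hu₀ : u₀ ∈ H a₀) (hg : x₀ * g * x₀⁻¹ = a₀ * u₀) :
    Nat.card {x : G // ∃ a ∈ A, a⁻¹ * (x * g * x⁻¹) ∈ H a} = Nat.card L * Nat.card (H a₀) := by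
  have hmem : ∀ l ∈ L, ∀ w ∈ H a₀,
      (l * w * x₀) ∈ {x : G | ∃ a ∈ A, a⁻¹ * (x * g * x⁻¹) ∈ H a} := by
    intro l hl w hw
    refine ⟨l * a₀ * l⁻¹, hD.conj_mem l hl a₀ ha₀, ?_⟩
    have hw' : w * a₀ = a₀ * w := dade_comm hD ha₀ hw
    have hi : w * u₀ * w⁻¹ ∈ H a₀ := hD.conj_mem_H a₀ ha₀ w (hD.le_centralizer a₀ ha₀ hw) u₀ hu₀
    have := dade_conj_H_le hD ha₀ hl hi
    convert this using 1
    calc (l * a₀ * l⁻¹)⁻¹ * (l * w * x₀ * g * (l * w * x₀)⁻¹)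
        = l * a₀⁻¹ * w * (x₀ * g * x₀⁻¹) * w⁻¹ * l⁻¹ := by group
      _ = l * a₀⁻¹ * (w * a₀) * u₀ * w⁻¹ * l⁻¹ := by rw [hg]; group
      _ = l * (w * u₀ * w⁻¹) * l⁻¹ := by rw [hw']; group
  let f : L × H a₀ → {x : G // ∃ a ∈ A, a⁻¹ * (x * g * x⁻¹) ∈ H a} :=
    fun p => ⟨(p.1 : G) * p.2 * x₀, hmem p.1 p.1.2 p.2 p.2.2⟩
  rw [← Nat.card_prod]
  refine (Nat.card_congr (Equiv.ofBijective f ⟨?_, ?_⟩)).symm
  · rintro ⟨⟨l, hl⟩, ⟨w, hw⟩⟩ ⟨⟨l', hl'⟩, ⟨w', hw'⟩⟩ h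
    have h0 : l * w = l' * w' := mul_right_cancel (Subtype.ext_iff.mp h)
    have he : l'⁻¹ * l = w' * w⁻¹ := by
      rw [eq_mul_inv_iff_mul_eq, mul_assoc, h0, inv_mul_cancel_left]
    have h1 : w' * w⁻¹ ∈ H a₀ ⊓ (L ⊓ Subgroup.centralizer ({a₀} : Set G)) :=
      ⟨(H a₀).mul_mem hw' ((H a₀).inv_mem hw), he ▸ L.mul_mem (L.inv_mem hl') hl,
        hD.le_centralizer a₀ ha₀ ((H a₀).mul_mem hw' ((H a₀).inv_mem hw))⟩
    rw [hD.inf_eq_bot a₀ ha₀, Subgroup.mem_bot] at h1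
    have e1 : w' = w := mul_inv_eq_one.mp h1
    subst e1
    have e2 : l = l' := mul_right_cancel h0
    subst e2
    rfl
  · rintro ⟨x, a, ha, hv⟩
    have he : (x * x₀⁻¹) * (a₀ * u₀) * (x * x₀⁻¹)⁻¹ = a * (a⁻¹ * (x * g * x⁻¹)) := by
      rw [← hg]; group
    have hconj := dade_conj_eq_of_coset hD ha₀ ha hu₀ hv he
    obtain ⟨l, hl, hla⟩ := hD.fusion a₀ ha₀ (x * x₀⁻¹) (hconj.symm ▸ ha)
    have hc : l⁻¹ * (x * x₀⁻¹) ∈ Subgroup.centralizer ({a₀} : Set G) := by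
      rw [mem_cent_conj]
      calc l⁻¹ * (x * x₀⁻¹) * a₀ * (l⁻¹ * (x * x₀⁻¹))⁻¹
          = l⁻¹ * ((x * x₀⁻¹) * a₀ * (x * x₀⁻¹)⁻¹) * l := by group
        _ = l⁻¹ * (l * a₀ * l⁻¹) * l := by rw [hla]
        _ = a₀ := by group
    rw [← hD.sup_eq a₀ ha₀, sup_comm, ← SetLike.mem_coe] at hc
    have hnorm : L ⊓ Subgroup.centralizer ({a₀} : Set G) ≤ Subgroup.normalizer (H a₀ : Set G) := by
      intro c hc n
      refine ⟨fun hn => hD.conj_mem_H a₀ ha₀ c hc.2 n hn, fun hn => ?_⟩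
      have := hD.conj_mem_H a₀ ha₀ c⁻¹ (inv_mem hc.2) _ hn
      simpa [mul_assoc] using this
    rw [Subgroup.coe_mul_of_left_le_normalizer_right _ _ hnorm, Set.mem_mul] at hc
    obtain ⟨c, hcc, w, hw, heq⟩ := hc
    refine ⟨(⟨l * c, mul_mem hl hcc.1⟩, ⟨w, hw⟩), Subtype.ext ?_⟩
    show l * c * w * x₀ = x
    rw [mul_assoc l c w, heq]; group

end Cfsg.Agent.H42
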