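import Mathlib

/-!
Elements `a` of `GF(p^q)` with `N(a) = N(2 - a) = 1`.
-/

set_option autoImplicit false

namespace Cfsg.Agent.H42

open Polynomial

theorem exists_norm_pair_cube (p : ℕ) [Fact p.Prime] (hp : p ≠ 2) :
    ∃ a : GaloisField p 3, a ≠ 1 ∧ Algebra.norm (ZMod p) a = 1 ∧
      Algebra.norm (ZMod p) (2 - a) = 1 := by
  classical
  have hpr : p.Prime := Fact.out
  have h2 : (2 : ZMod p) ≠ 0 := by
    intro h
    have h' : ((2 : ℕ) : ZMod p) = 0 := by exact_mod_cast h
    rw [ZMod.natCast_eq_zero_iff] at h'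
    exact hp ((Nat.prime_dvd_prime_iff_eq hpr Nat.prime_two).mp h')
  -- a value `s` avoiding the roots
  obtain ⟨s, hs⟩ : ∃ s : ZMod p, ∀ x : ZMod p, x ^ 3 - s * x ^ 2 + (2 * s - 3) * x - 1 ≠ 0 := by
    let S : Finset (ZMod p) :=
      ((Finset.univ.erase 0).erase 2).image fun x => (x ^ 3 - 3 * x - 1) / (x ^ 2 - 2 * x)
    have hS : S ≠ Finset.univ := by
      intro h
      have h1 : S.card ≤ ((Finset.univ.erase (0 : ZMod p)).erase 2).card := Finset.card_image_le
      rw [h, Finset.card_erase_of_mem (Finset.mem_erase.mpr ⟨h2, Finset.mem_univ _⟩),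
        Finset.card_erase_of_mem (Finset.mem_univ _), Finset.card_univ, ZMod.card] at h1
      have := hpr.two_le
      omega
    obtain ⟨s, hs⟩ : ∃ s, s ∉ S := by
      by_contra hc
      simp only [not_exists, not_not] at hc
      exact hS (Finset.eq_univ_iff_forall.mpr hc)
    refine ⟨s, fun x hx => ?_⟩
    by_cases hx0 : x = 0
    · subst hx0; simp at hx
    by_cases hx2 : x = 2
    · subst hx2
      have : (1 : ZMod p) = 0 := by linear_combination hx
      exact one_ne_zero this
    apply hs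
    refine Finset.mem_image.mpr ⟨x, by simp [hx0, hx2], ?_⟩
    have hd : x ^ 2 - 2 * x ≠ 0 := by
      rw [show x ^ 2 - 2 * x = x * (x - 2) by ring]
      exact mul_ne_zero hx0 (sub_ne_zero.mpr hx2)
    rw [div_eq_iff hd]
    linear_combination hx
  let f : (ZMod p)[X] := X ^ 3 - C s * X ^ 2 + C (2 * s - 3) * X - 1
  have hdeg : f.natDegree = 3 := by simp only [f]; compute_degree!
  have hmonic : f.Monic := by simp only [f]; monicity!
  have hirr : Irreducible f := by
    rw [Polynomial.irreducible_iff_roots_eq_zero_of_degree_le_three (by omega) (by omega)]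
    rw [Multiset.eq_zero_iff_forall_notMem]
    intro x hx
    rw [Polynomial.mem_roots hmonic.ne_zero, Polynomial.IsRoot.def] at hx
    exact hs x (by simpa [f] using hx)
  haveI := Fact.mk hirr
  let pb := AdjoinRoot.powerBasis hmonic.ne_zero
  have hmin : minpoly (ZMod p) pb.gen = f :=
    (minpoly.eq_of_irreducible_of_monic hirr (AdjoinRoot.eval₂_root f) hmonic).symm
  have hchar : (Algebra.leftMulMatrix pb.basis pb.gen).charpoly = f := by
    rw [charpoly_leftMulMatrix, hmin]
  have hnorm : ∀ c : ZMod p,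
      Algebra.norm (ZMod p) (algebraMap (ZMod p) (AdjoinRoot f) c - pb.gen) = f.eval c := by
    intro c
    conv_rhs => rw [← hchar]
    rw [Algebra.norm_eq_matrix_det pb.basis, map_sub, Matrix.eval_charpoly]
    congr 2
    rw [AlgHom.commutes, Matrix.algebraMap_eq_diagonal]
    rfl
  haveI : Module.Finite (ZMod p) (AdjoinRoot f) := pb.finite
  haveI : Finite (AdjoinRoot f) := Module.finite_of_finite (ZMod p)
  haveI : Fintype (AdjoinRoot f) := Fintype.ofFinite _
  haveI : Fintype (GaloisField p 3) := Fintype.ofFinite _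
  let e : AdjoinRoot f ≃ₐ[ZMod p] GaloisField p 3 := FiniteField.algEquivOfCardEq p (by
    rw [← Nat.card_eq_fintype_card, ← Nat.card_eq_fintype_card, GaloisField.card p 3 (by norm_num),
      Module.natCard_eq_pow_finrank (K := ZMod p), Nat.card_zmod, pb.finrank,
      AdjoinRoot.powerBasis_dim, hdeg])
  have hfin : Module.finrank (ZMod p) (AdjoinRoot f) = 3 := by
    rw [pb.finrank, AdjoinRoot.powerBasis_dim, hdeg]
  refine ⟨e pb.gen, ?_, ?_, ?_⟩
  · intro h
    have h1 : pb.gen = 1 := e.injective (by rw [h, map_one])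
    rw [h1, minpoly.one] at hmin
    have := congrArg Polynomial.natDegree hmin
    rw [hdeg, ← map_one C, Polynomial.natDegree_X_sub_C] at this
    omega
  · rw [Algebra.norm_eq_of_algEquiv]
    have h := hnorm 0
    rw [map_zero, zero_sub, ← neg_one_mul, map_mul,
      show (-1 : AdjoinRoot f) = algebraMap (ZMod p) (AdjoinRoot f) (-1) by rw [map_neg, map_one],
      Algebra.norm_algebraMap, hfin] at h
    simp [f] at h
    linear_combination -h
  · rw [show (2 : GaloisField p 3) - e pb.gen = e (algebraMap (ZMod p) (AdjoinRoot f) 2 - pb.gen) by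
        rw [map_sub, AlgEquiv.commutes, map_ofNat],
      Algebra.norm_eq_of_algEquiv, hnorm]
    simp [f]; ring

theorem exists_norm_pair_large (p q : ℕ) [Fact p.Prime] (hp3 : 3 ≤ p) (hq5 : 5 ≤ q) :
    ∃ a : GaloisField p q, a ≠ 1 ∧ Algebra.norm (ZMod p) a = 1 ∧
      Algebra.norm (ZMod p) (2 - a) = 1 := by
  classical
  have hpr : p.Prime := Fact.out
  haveI : Fintype (GaloisField p q) := Fintype.ofFinite _
  haveI : CharP (GaloisField p q) p := inferInstance
  have hcardF : Nat.card (GaloisField p q) = p ^ q := GaloisField.card p q (by omega)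
  let U : Finset (GaloisField p q) := Finset.univ.filter fun x => Algebra.norm (ZMod p) x = 1
  have hmemU : ∀ x, x ∈ U ↔ Algebra.norm (ZMod p) x = 1 := fun x => by simp [U]
  have hU0 : ∀ u ∈ U, u ≠ 0 := fun u hu h => by simp [hmemU, h] at hu
  -- the size of `U`
  have hn : p ^ (q - 1) < U.card := by
    let φ : (GaloisField p q)ˣ →* (ZMod p)ˣ := Units.map (Algebra.norm (ZMod p))
    have hsurj : Function.Surjective φ := FiniteField.unitsMap_norm_surjective _ _
    have h1 : Nat.card (GaloisField p q)ˣ = Nat.card φ.ker * Nat.card (ZMod p)ˣ := by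
      rw [Subgroup.card_eq_card_quotient_mul_card_subgroup φ.ker, mul_comm,
        Nat.card_congr (QuotientGroup.quotientKerEquivOfSurjective φ hsurj).toEquiv]
    rw [Nat.card_units, Nat.card_units, hcardF, Nat.card_zmod] at h1
    have h2 : Nat.card φ.ker = U.card := by
      rw [← Nat.card_eq_finsetCard]
      exact Nat.card_congr
        { toFun := fun u => ⟨(u : (GaloisField p q)ˣ), (hmemU _).mpr (congrArg Units.val u.2)⟩
          invFun := fun u => ⟨Units.mk0 u.1 (hU0 _ u.2), Units.ext ((hmemU _).mp u.2)⟩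
          left_inv := fun u => Subtype.ext (Units.ext rfl)
          right_inv := fun u => Subtype.ext rfl }
    have h4 : Nat.card φ.ker = ∑ i ∈ Finset.range q, p ^ i := by
      rw [Nat.geomSum_eq hpr.two_le, h1, Nat.mul_div_cancel _ (by omega)]
    rw [← h2, h4]
    obtain ⟨r, rfl⟩ : ∃ r, q = r + 2 := ⟨q - 2, by omega⟩
    rw [Finset.sum_range_succ, Finset.sum_range_succ' _ r]
    show p ^ (r + 1) < _
    simp only [pow_zero]
    omega
  obtain ⟨ψ, hψ⟩ : ∃ ψ : AddChar (GaloisField p q) ℂ, ψ ≠ 1 := by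
    obtain ⟨ψ, hψ⟩ := AddChar.exists_apply_ne_zero.mpr (one_ne_zero : (1 : GaloisField p q) ≠ 0)
    exact ⟨ψ, AddChar.ne_one_iff.mpr ⟨1, hψ⟩⟩
  have hprim : ψ.IsPrimitive := AddChar.IsPrimitive.of_ne_one hψ
  have hnorm : ∀ x, ‖ψ x‖ = 1 := fun x => by
    refine Complex.norm_eq_one_of_pow_eq_one (n := p) ?_ hpr.ne_zero
    rw [← AddChar.map_nsmul_eq_pow, nsmul_eq_mul, CharP.cast_eq_zero, zero_mul, AddChar.map_zero_eq_one]
  have hconj : ∀ x, (starRingEnd ℂ) (ψ x) = ψ (-x) := fun x => by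
    rw [AddChar.map_neg_eq_inv, Complex.inv_eq_conj (hnorm x)]
  let η : GaloisField p q → ℂ := fun c => ∑ u ∈ U, ψ (c * u)
  have hηu : ∀ c, ∀ u ∈ U, η (c * u) = η c := by
    intro c u hu
    refine Finset.sum_bij (fun v _ => u * v) (fun v hv => ?_) (fun v _ w _ h => ?_) (fun v hv => ?_)
      (fun v _ => by rw [mul_assoc])
    · rw [hmemU, map_mul, (hmemU u).mp hu, (hmemU v).mp hv, one_mul]
    · exact mul_left_cancel₀ (hU0 u hu) h
    · refine ⟨u⁻¹ * v, ?_, mul_inv_cancel_left₀ (hU0 u hu) v⟩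
      have hi : Algebra.norm (ZMod p) u⁻¹ = 1 := by
        have h := map_mul (Algebra.norm (ZMod p)) u⁻¹ u
        rw [inv_mul_cancel₀ (hU0 u hu), map_one, (hmemU u).mp hu, mul_one] at h
        exact h.symm
      rw [hmemU, map_mul, hi, (hmemU v).mp hv, one_mul]
  have horth : ∀ b : GaloisField p q, ∑ c : GaloisField p q, ψ (c * b) =
      if b = 0 then ((p : ℂ) ^ q) else 0 := by
    intro b
    have := AddChar.sum_mulShift b hprim
    rw [this]
    split_ifs
    · rw [← Nat.card_eq_fintype_card, hcardF]; push_cast; rfl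
    · simp
  have hE : ∀ u, u ∈ U.filter (fun x => (2 : GaloisField p q) - x ∈ U) ↔
      Algebra.norm (ZMod p) u = 1 ∧ Algebra.norm (ZMod p) (2 - u) = 1 := fun u => by simp [hmemU]
  set N := (U.filter fun x => (2 : GaloisField p q) - x ∈ U).card with hN
  have hcount : ∑ c : GaloisField p q, η c ^ 2 * ψ (c * (-2)) = (p : ℂ) ^ q * N := by
    calc ∑ c : GaloisField p q, η c ^ 2 * ψ (c * (-2))
        = ∑ c : GaloisField p q, ∑ u ∈ U, ∑ v ∈ U, ψ (c * (u + v + -2)) := by
          refine Finset.sum_congr rfl fun c _ => ?_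
          rw [pow_two, Finset.sum_mul_sum, Finset.sum_mul]
          refine Finset.sum_congr rfl fun u _ => ?_
          rw [Finset.sum_mul]
          refine Finset.sum_congr rfl fun v _ => ?_
          rw [mul_add, mul_add, AddChar.map_add_eq_mul, AddChar.map_add_eq_mul]
      _ = ∑ u ∈ U, ∑ v ∈ U, if v = 2 - u then ((p : ℂ) ^ q) else 0 := by
          rw [Finset.sum_comm]
          refine Finset.sum_congr rfl fun u _ => ?_
          rw [Finset.sum_comm]
          refine Finset.sum_congr rfl fun v _ => ?_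
          rw [horth]
          refine if_congr ?_ rfl rfl
          constructor
          · intro h; linear_combination h
          · intro h; rw [h]; ring
      _ = _ := by
          simp only [Finset.sum_ite_eq']
          rw [← Finset.sum_filter, Finset.sum_const, ← hN, nsmul_eq_mul, mul_comm]
  have hsq : ∑ c : GaloisField p q, ‖η c‖ ^ 2 = (p : ℝ) ^ q * U.card := by
    have : ∑ c : GaloisField p q, η c * (starRingEnd ℂ) (η c) = (p : ℂ) ^ q * U.card := by
      calc ∑ c : GaloisField p q, η c * (starRingEnd ℂ) (η c)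
          = ∑ c : GaloisField p q, ∑ u ∈ U, ∑ v ∈ U, ψ (c * (u - v)) := by
            refine Finset.sum_congr rfl fun c _ => ?_
            rw [map_sum, Finset.sum_mul_sum]
            refine Finset.sum_congr rfl fun u _ => Finset.sum_congr rfl fun v _ => ?_
            rw [hconj, ← AddChar.map_add_eq_mul]
            congr 1; ring
        _ = ∑ u ∈ U, ∑ v ∈ U, if v = u then ((p : ℂ) ^ q) else 0 := by
            rw [Finset.sum_comm]
            refine Finset.sum_congr rfl fun u _ => ?_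
            rw [Finset.sum_comm]
            refine Finset.sum_congr rfl fun v _ => ?_
            rw [horth]
            exact if_congr (sub_eq_zero.trans eq_comm) rfl rfl
        _ = _ := by
            rw [Finset.sum_congr rfl fun u (hu : u ∈ U) => by rw [Finset.sum_ite_eq', if_pos hu],
              Finset.sum_const, nsmul_eq_mul, mul_comm]
    simp only [Complex.mul_conj', ← Complex.ofReal_pow] at this
    rw [← Complex.ofReal_sum] at this
    exact_mod_cast this
  -- every period is small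
  have hsmall : ∀ c, c ≠ 0 → ‖η c‖ ^ 2 ≤ (p : ℝ) ^ q := by
    intro c hc
    have h1 : ∑ x ∈ U.image (fun u => c * u), ‖η x‖ ^ 2 = U.card * ‖η c‖ ^ 2 := by
      rw [Finset.sum_image (fun u _ v _ h => mul_left_cancel₀ hc h),
        Finset.sum_congr rfl fun u (hu : u ∈ U) => by rw [hηu c u hu],
        Finset.sum_const, nsmul_eq_mul]
    have h2 : ∑ x ∈ U.image (fun u => c * u), ‖η x‖ ^ 2 ≤ ∑ x : GaloisField p q, ‖η x‖ ^ 2 :=
      Finset.sum_le_univ_sum_of_nonneg fun x => sq_nonneg _
    rw [h1, hsq, mul_comm ((p : ℝ) ^ q)] at h2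
    exact le_of_mul_le_mul_left h2 (by exact_mod_cast (pow_pos hpr.pos _).trans hn)
  set M : ℝ := Real.sqrt ((p : ℝ) ^ q) with hM
  -- averaging over `U`
  have hmain : (U.card : ℂ) * ((p : ℂ) ^ q * N - (U.card : ℂ) ^ 2) =
      ∑ c ∈ Finset.univ.erase (0 : GaloisField p q), η c ^ 2 * η (c * (-2)) := by
    have h0 : η 0 = U.card := by simp [η]
    have hrest : (p : ℂ) ^ q * N - (U.card : ℂ) ^ 2 =
        ∑ c ∈ Finset.univ.erase (0 : GaloisField p q), η c ^ 2 * ψ (c * (-2)) := by
      rw [← hcount, ← Finset.add_sum_erase _ _ (Finset.mem_univ (0 : GaloisField p q))]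
      simp only [zero_mul, AddChar.map_zero_eq_one, mul_one, h0]
      ring
    have hshift : ∀ u ∈ U, ∑ c ∈ Finset.univ.erase (0 : GaloisField p q), η c ^ 2 * ψ (c * (-2)) =
        ∑ c ∈ Finset.univ.erase (0 : GaloisField p q), η c ^ 2 * ψ (c * (-2) * u) := by
      intro u hu
      refine (Finset.sum_bij (fun c _ => c * u) (fun c hc => ?_) (fun v _ w _ h => ?_) (fun v hv => ?_)
        (fun c _ => by rw [hηu c u hu, mul_right_comm c u (-2)])).symm
      · simp only [Finset.mem_erase, Finset.mem_univ, and_true] at hc ⊢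
        exact mul_ne_zero hc (hU0 u hu)
      · exact mul_right_cancel₀ (hU0 u hu) h
      · simp only [Finset.mem_erase, Finset.mem_univ, and_true] at hv ⊢
        exact ⟨v * u⁻¹, mul_ne_zero hv (inv_ne_zero (hU0 u hu)), inv_mul_cancel_right₀ (hU0 u hu) v⟩
    rw [hrest, ← nsmul_eq_mul, ← Finset.sum_const, Finset.sum_congr rfl hshift, Finset.sum_comm]
    refine Finset.sum_congr rfl fun c _ => ?_
    rw [← Finset.mul_sum]
  have hbound : ‖(p : ℂ) ^ q * N - (U.card : ℂ) ^ 2‖ ≤ (p : ℝ) ^ q * M := by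
    have h2 : (2 : GaloisField p q) ≠ 0 := by
      intro h
      have h' : ((2 : ℕ) : GaloisField p q) = 0 := by exact_mod_cast h
      rw [CharP.cast_eq_zero_iff (GaloisField p q) p] at h'
      exact absurd (Nat.le_of_dvd (by norm_num) h') (by omega)
    have h1 := congrArg (fun z : ℂ => ‖z‖) hmain
    simp only [norm_mul, Complex.norm_natCast] at h1
    have h3 : ‖∑ c ∈ Finset.univ.erase (0 : GaloisField p q), η c ^ 2 * η (c * (-2))‖ ≤
        M * ((p : ℝ) ^ q * U.card) := by
      refine (norm_sum_le _ _).trans ?_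
      rw [← hsq, Finset.mul_sum]
      refine le_trans ?_ (Finset.sum_le_univ_sum_of_nonneg (s := Finset.univ.erase (0 : GaloisField p q))
        fun x => mul_nonneg (Real.sqrt_nonneg _) (sq_nonneg _))
      refine Finset.sum_le_sum fun c hc => ?_
      rw [norm_mul, norm_pow, mul_comm]
      refine mul_le_mul_of_nonneg_right ?_ (sq_nonneg _)
      exact (Real.le_sqrt (norm_nonneg _) (pow_nonneg (Nat.cast_nonneg p) q)).mpr
        (hsmall _ (mul_ne_zero (Finset.ne_of_mem_erase hc) (neg_ne_zero.mpr h2)))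
    rw [← h1] at h3
    refine le_of_mul_le_mul_left (h3.trans (le_of_eq (by ring)))
      (by exact_mod_cast (pow_pos hpr.pos _).trans hn)
  -- hence a second element
  have hN2 : 1 < N := by
    by_contra hle
    have hNle : (N : ℝ) ≤ 1 := by exact_mod_cast not_lt.mp hle
    have h1 : (U.card : ℝ) ^ 2 - (p : ℝ) ^ q * N ≤ (p : ℝ) ^ q * M := by
      refine le_trans (le_abs_self _) ?_
      rw [abs_sub_comm]
      have : ((((p : ℝ) ^ q * N - (U.card : ℝ) ^ 2) : ℝ) : ℂ) = (p : ℂ) ^ q * N - (U.card : ℂ) ^ 2 := by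
        push_cast; ring
      rw [← Real.norm_eq_abs, ← Complex.norm_real, this]
      exact hbound
    obtain ⟨r, rfl⟩ : ∃ r, q = r + 5 := ⟨q - 5, by omega⟩
    have hP : (3 : ℝ) ≤ p := by exact_mod_cast hp3
    have hA : (p : ℝ) ^ (r + 4) < U.card := by exact_mod_cast hn
    have hpos : (0 : ℝ) < (p : ℝ) ^ (r + 5) := pow_pos (by linarith) _
    have hM2 : M ^ 2 = (p : ℝ) ^ (r + 5) := Real.sq_sqrt hpos.le
    have hM0 : 0 ≤ M := Real.sqrt_nonneg _
    have h2 : ((p : ℝ) ^ (r + 4)) ^ 2 < (p : ℝ) ^ (r + 5) * (1 + M) := by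
      have h3 : ((p : ℝ) ^ (r + 4)) ^ 2 < (U.card : ℝ) ^ 2 := pow_lt_pow_left₀ hA (by positivity) two_ne_zero
      have h4 : (p : ℝ) ^ (r + 5) * N ≤ (p : ℝ) ^ (r + 5) := mul_le_of_le_one_right hpos.le hNle
      nlinarith
    have h5 : (p : ℝ) ^ (r + 3) < 1 + M := by
      refine lt_of_mul_lt_mul_left ?_ hpos.le
      calc (p : ℝ) ^ (r + 5) * (p : ℝ) ^ (r + 3) = ((p : ℝ) ^ (r + 4)) ^ 2 := by ring
        _ < _ := h2
    set x : ℝ := (p : ℝ) ^ r with hx
    have hx1 : 1 ≤ x := one_le_pow₀ (by linarith)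
    have hM5 : M ^ 2 = x * (p : ℝ) ^ 5 := by rw [hM2, hx, ← pow_add]
    have h6 : x * (p : ℝ) ^ 3 - 1 < M := by rw [hx, ← pow_add]; linarith
    have h7 : (0 : ℝ) ≤ x * (p : ℝ) ^ 3 - 1 := by nlinarith [pow_le_pow_left₀ (by norm_num : (0:ℝ) ≤ 3) hP 3]
    have h8 : (x * (p : ℝ) ^ 3 - 1) ^ 2 < x * (p : ℝ) ^ 5 := by
      rw [← hM5]; exact pow_lt_pow_left₀ h6 h7 two_ne_zero
    have h9 : 0 ≤ x * (p : ℝ) ^ 3 * (x * (p : ℝ) ^ 3 - (p : ℝ) ^ 2 - 2) := by
      have : (3 : ℝ) ^ 2 ≤ (p : ℝ) ^ 2 := pow_le_pow_left₀ (by norm_num) hP 2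
      have : (p : ℝ) ^ 2 + 2 ≤ x * (p : ℝ) ^ 3 := by
        nlinarith [mul_le_mul_of_nonneg_right hx1 (by positivity : (0 : ℝ) ≤ (p : ℝ) ^ 3),
          mul_le_mul_of_nonneg_right hP (sq_nonneg (p : ℝ))]
      exact mul_nonneg (by positivity) (by linarith)
    nlinarith
  obtain ⟨a, ha, ha1⟩ := Finset.exists_mem_ne hN2 (1 : GaloisField p q)
  exact ⟨a, ha1, (hE a).mp ha⟩

end Cfsg.Agent.H42
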