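import Cfsg.Agent.H41.OddStable
import Cfsg.Agent.Cores.Constrained
import Cfsg.Agent.Cores.PSolvable
import Cfsg.Agent.Thompson.ZJ
import Cfsg.Prelude.Def_Local

/-!
Consequences of `p`-stability for solvable groups of odd order.
-/

set_option autoImplicit false

namespace Cfsg.Agent.H42

open Subgroup
open scoped commutatorElement

variable {G : Type*} [Group G] [Finite G] {p : ℕ} [Fact p.Prime]

theorem centralizer_le_pCore_of_inf [Group.IsSolvable G] (hO : pPrimeCore p G = ⊥)
    (N : Subgroup G) [N.Normal] (h : pCore p G ⊓ centralizer (N : Set G) ≤ N) :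
    centralizer (N : Set G) ≤ pCore p G := by
  set C := centralizer (N : Set G) with hC
  have h1 : pPrimeCore p C = ⊥ := by
    have := Cores.map_pPrimeCore_le_of_normal (p := p) C
    rw [hO, le_bot_iff, map_eq_bot_iff_of_injective _ C.subtype_injective] at this
    exact this
  have h2 : centralizer (pCore p C : Set C) = ⊤ := by
    refine eq_top_iff.mpr fun c _ => mem_centralizer_iff.mpr fun t ht => ?_
    have htm : ((t : C) : G) ∈ pCore p G := Cores.map_pCore_le_of_normal C ⟨t, ht, rfl⟩
    have htN : ((t : C) : G) ∈ N := h ⟨htm, t.2⟩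
    exact Subtype.ext (mem_centralizer_iff.mp c.2 _ htN)
  have h3 := Cores.centralizer_pCore_le (p := p) (Cores.isPSolvable_of_isSolvable (G := C)) h1
  rw [h2, top_le_iff] at h3
  have := Cores.map_pCore_le_of_normal (p := p) C
  rwa [h3, ← MonoidHom.range_eq_map, range_subtype] at this

theorem commutator_self_eq_bot_of_comm {B : Subgroup G} (hB : IsMulCommutative B) : ⁅B, B⁆ = ⊥ := by
  have := hB
  exact commutator_eq_bot_iff_le_centralizer.mpr (le_centralizer B)

theorem quadratic_of_normalized {P B : Subgroup G} (hB : IsMulCommutative B)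
    (hPB : P ≤ normalizer (B : Set G)) : ⁅⁅P, B⁆, B⁆ = ⊥ := by
  refine eq_bot_iff.mpr (le_trans (commutator_mono ?_ (le_refl B))
    (commutator_self_eq_bot_of_comm hB).le)
  exact commutator_le.mpr fun x hx z hz => by
    rw [commutatorElement_def]
    exact mul_mem ((Subgroup.mem_normalizer_iff.mp (hPB hx) z).mp hz) (B.inv_mem hz)

theorem le_stabPre_of_odd (hp : p ≠ 2) (hodd : Odd (Nat.card G)) {P B : Subgroup G} [P.Normal]
    (hP : IsPGroup p P) (hB : IsMulCommutative B) (hPB : P ≤ normalizer (B : Set G)) :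
    B ≤ Thompson.stabPre p P :=
  Thompson.le_stabPre (H41.stableOnNormal_of_odd hp hodd) hP (quadratic_of_normalized hB hPB)

theorem stabPre_le_pCore [Group.IsSolvable G] (hO : pPrimeCore p G = ⊥)
    (P : Subgroup G) [P.Normal] (h : pCore p G ⊓ centralizer (P : Set G) ≤ P) :
    Thompson.stabPre p P ≤ pCore p G := by
  refine Cores.le_pCore (Cores.pCore_isPGroup.comap_of_ker_isPGroup _ ?_)
  rw [QuotientGroup.ker_mk']
  exact Cores.pCore_isPGroup.to_le (centralizer_le_pCore_of_inf hO P h)

theorem le_pCore_of_normalized [Group.IsSolvable G] (hp : p ≠ 2) (hodd : Odd (Nat.card G))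
    (hO : pPrimeCore p G = ⊥) {P B : Subgroup G} [P.Normal] (hP : IsPGroup p P)
    (h : pCore p G ⊓ centralizer (P : Set G) ≤ P)
    (hB : IsMulCommutative B) (hPB : P ≤ normalizer (B : Set G)) : B ≤ pCore p G :=
  (le_stabPre_of_odd hp hodd hP hB hPB).trans (stabPre_le_pCore hO P h)

end Cfsg.Agent.H42
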