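import Cfsg.Agent.H42.PuigInside
import Cfsg.Agent.H42.OddPStable

/-!
Puig's centre theorem for solvable groups of odd order.
-/

set_option autoImplicit false

namespace Cfsg.Agent.H42

open Subgroup

variable {G : Type*} [Group G] [Finite G] [Group.IsSolvable G] {p : ℕ} [Fact p.Prime]

theorem normal_of_normalizer_ge {H : Subgroup G} (h : ∀ g : G, g ∈ normalizer (H : Set G)) :
    H.Normal :=
  normalizer_eq_top_iff.mp (eq_top_iff.mpr fun g _ => h g)

theorem puig_compare_pCore (hp : p ≠ 2) (hodd : Odd (Nat.card G)) (hO : pPrimeCore p G = ⊥)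
    (S : Sylow p G) :
    lowerIn (S : Subgroup G) ≤ lowerIn (pCore p G) ∧
      upperIn (pCore p G) ≤ upperIn (S : Subgroup G) := by
  haveI : (pCore p G).Normal := pCore_normal p G
  have hTp : IsPGroup p ↥(pCore p G) := Cores.pCore_isPGroup
  refine compare_lower_upper (seqIn_compare (Cores.pCore_le_sylow S) fun n A hA hc hn hle => ?_)
  haveI : (seqIn (pCore p G) (2 * n + 1)).Normal := normal_of_normalizer_ge fun g =>
    normalizer_le_seqIn _ _ ((normalizer_eq_top (H := pCore p G)).ge (mem_top g))
  exact le_pCore_of_normalized hp hodd hO (hTp.to_le (seqIn_le _ _))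
    (inf_centralizer_seqIn_succ_le hTp _) hc (hle.trans hn)

theorem puig_center_normal (hp : p ≠ 2) (hodd : Odd (Nat.card G)) (hO : pPrimeCore p G = ⊥)
    (S : Sylow p G) :
    (upperIn (S : Subgroup G) ⊓ centralizer (upperIn (S : Subgroup G) : Set G)).Normal := by
  classical
  haveI : (pCore p G).Normal := pCore_normal p G
  have hSp : IsPGroup p ↥(S : Subgroup G) := S.isPGroup'
  have hTp : IsPGroup p ↥(pCore p G) := Cores.pCore_isPGroup
  have hTS : pCore p G ≤ (S : Subgroup G) := Cores.pCore_le_sylow S
  set L := upperIn (S : Subgroup G) with hL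
  set V := upperIn (pCore p G) with hV
  set Z := L ⊓ centralizer (L : Set G) with hZ
  set ZV := V ⊓ centralizer (V : Set G) with hZV
  haveI hVn : V.Normal := normal_of_normalizer_ge fun g =>
    normalizer_le_upperIn _ ((normalizer_eq_top (H := pCore p G)).ge (mem_top g))
  haveI hZVn : ZV.Normal := normal_of_normalizer_ge fun g =>
    normalizer_le_center V ((normalizer_eq_top (H := V)).ge (mem_top g))
  obtain ⟨hlow, hup⟩ := puig_compare_pCore hp hodd hO S
  have hCV : centralizer (V : Set G) ≤ pCore p G :=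
    centralizer_le_pCore_of_inf hO V (inf_centralizer_upperIn_le hTp)
  have hZle : Z ≤ ZV := fun x hx => by
    have hxc : x ∈ centralizer (V : Set G) := centralizer_le hup hx.2
    exact ⟨inf_centralizer_upperIn_le hTp ⟨hCV hxc, hxc⟩, hxc⟩
  have hZVlow : ZV ≤ lowerIn (S : Subgroup G) := fun x hx =>
    inf_centralizer_lowerIn_le hSp ⟨hTS (upperIn_le _ hx.1),
      centralizer_le (hlow.trans (lowerIn_le_upperIn _)) hx.2⟩
  have hZVp : IsPGroup p ↥ZV := hTp.to_le (inf_le_left.trans (upperIn_le _))
  set D := Thompson.stabPre p ZV with hD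
  have hLD : L ≤ D := by
    rw [hL, ← stepIn_lowerIn]
    exact stepIn_le fun A _ hc hn => le_stabPre_of_odd hp hodd hZVp hc (hZVlow.trans hn)
  have hNZ : normalizer ((S : Subgroup G) : Set G) ≤ normalizer (Z : Set G) :=
    (normalizer_le_upperIn _).trans (normalizer_le_center _)
  have hDN : D ≤ normalizer (Z : Set G) := by
    refine (Thompson.stabPre_le S ZV).trans (sup_le ?_ (le_normalizer.trans hNZ))
    exact (centralizer_le hZle).trans (centralizer_le_normalizer _)
  have hRN : normalizer (((S : Subgroup G) ⊓ D : Subgroup G) : Set G) ≤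
      normalizer (Z : Set G) := by
    have h1 := normalizer_le_upperIn ((S : Subgroup G) ⊓ D)
    rw [upperIn_eq_of_le (le_inf (upperIn_le _) hLD) inf_le_left] at h1
    exact h1.trans (normalizer_le_center _)
  refine normalizer_eq_top_iff.mp (eq_top_iff.mpr ?_)
  rw [← Thompson.frattini_inf S D]
  exact sup_le hRN hDN

end Cfsg.Agent.H42
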