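import Mathlib
import Cfsg.Prelude.Def_OddOrderLocal
import Cfsg.Agent.Cores.PCore
import Cfsg.Agent.H42.InvariantSignalizer

/-!
The transitivity theorem for an abelian `p`-subgroup `E` of rank at least three.
-/

set_option autoImplicit false

namespace Cfsg.Agent.H42

open Subgroup
open Cfsg
open scoped commutatorElement

variable {G : Type*} [Group G] [Finite G]

theorem abelian_fixed_trivial {M : Type*} [CommGroup M] {p : ℕ} [Fact p.Prime]
    (c : ZMod p × ZMod p → M)
    (hline : ∀ j : ZMod p, ∏ i, c (i, i * j) = 1)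
    (hzero : ∏ j, c (0, j) = 1) (hall : ∏ x, c x = 1) : c (0, 0) ^ p = 1 := by
  classical
  have h1 : ∀ i : ZMod p, (∏ j, c (i, i * j)) = if i = 0 then c (0, 0) ^ p else ∏ j, c (i, j) := by
    intro i
    split_ifs with hi
    · subst hi; simp
    · exact Fintype.prod_equiv (Equiv.mulLeft₀ i hi) _ _ fun j => rfl
  have h2 : ∏ j : ZMod p, ∏ i, c (i, i * j) = 1 := Finset.prod_eq_one fun j _ => hline j
  rw [Finset.prod_comm] at h2
  simp only [h1] at h2
  rw [Fintype.prod_prod_type] at hall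
  rw [← Finset.mul_prod_erase _ _ (Finset.mem_univ (0 : ZMod p))] at h2 hall
  rw [hzero, one_mul] at hall
  rw [if_pos rfl, Finset.prod_congr rfl (fun i hi => if_neg (Finset.ne_of_mem_erase hi)), hall,
    mul_one] at h2
  exact h2

/-- If two commuting elements of order dividing `p`, generating a group of order `p ^ 2`, act on `X`
fixing `D ⊇ [X, X]`, some nontrivial element of that group fixes a coset outside `D`. -/
theorem exists_fixed_coset {p : ℕ} [Fact p.Prime] {a b : G} (hab : a * b = b * a)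
    (ha : a ^ p = 1) (hb : b ^ p = 1) (hne : ∀ i : ZMod p, a * b ^ i.val ≠ 1) (hb1 : b ≠ 1)
    {X D : Subgroup G} (hDX : D ≤ X) (hXD : X ≤ normalizer (D : Set G)) (hXX : ⁅X, X⁆ ≤ D)
    (haX : a ∈ normalizer (X : Set G)) (haD : a ∈ normalizer (D : Set G))
    (hbX : b ∈ normalizer (X : Set G)) (hbD : b ∈ normalizer (D : Set G))
    {x : G} (hx : x ∈ X) (hxD : x ^ p ∉ D) :
    ∃ (e : G) (y : G), e ∈ zpowers a ⊔ zpowers b ∧ e ≠ 1 ∧ y ∈ X ∧ y ∉ D ∧
      y⁻¹ * (e * y * e⁻¹) ∈ D := by
  classical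
  haveI : (D.subgroupOf X).Normal := normal_subgroupOf_of_le_normalizer hXD
  let M := X ⧸ D.subgroupOf X
  haveI : IsMulCommutative M := ⟨⟨fun u v => by
    obtain ⟨u, rfl⟩ := QuotientGroup.mk_surjective u
    obtain ⟨v, rfl⟩ := QuotientGroup.mk_surjective v
    rw [← QuotientGroup.mk_mul, ← QuotientGroup.mk_mul, QuotientGroup.eq, Subgroup.mem_subgroupOf]
    have := hXX (commutator_mem_commutator (X.inv_mem v.2) (X.inv_mem u.2))
    push_cast
    simpa [commutatorElement_def, mul_assoc] using this⟩⟩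
  letI : CommGroup M := { (inferInstance : Group M) with mul_comm := mul_comm' }
  let S : Subgroup G := normalizer (X : Set G) ⊓ normalizer (D : Set G)
  have hconj : ∀ g ∈ S, ∀ u ∈ X, g * u * g⁻¹ ∈ X := fun g hg u hu => (hg.1 u).mp hu
  -- the orbit of `x`
  let g : ZMod p × ZMod p → G := fun ij => a ^ ij.1.val * b ^ ij.2.val
  have hgS : ∀ ij, g ij ∈ S := fun ij => S.mul_mem (S.pow_mem ⟨haX, haD⟩ _) (S.pow_mem ⟨hbX, hbD⟩ _)
  let c : ZMod p × ZMod p → M := fun ij =>
    QuotientGroup.mk (⟨g ij * x * (g ij)⁻¹, hconj _ (hgS ij) _ hx⟩ : X)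
  have hgadd : ∀ u v, g (u + v) = g u * g v := by
    intro u v
    have hA : ∀ {t : G}, t ^ p = 1 → ∀ i j : ZMod p, t ^ (i + j).val = t ^ i.val * t ^ j.val := by
      intro t ht i j
      rw [ZMod.val_add, ← pow_eq_pow_mod _ ht, pow_add]
    show a ^ (u + v).1.val * b ^ (u + v).2.val = a ^ u.1.val * b ^ u.2.val * (a ^ v.1.val * b ^ v.2.val)
    rw [Prod.fst_add, Prod.snd_add, hA ha, hA hb]
    exact Commute.mul_mul_mul_comm ((show Commute a b from hab).pow_pow v.1.val u.2.val) _ _
  have hgmem : ∀ u, g u ∈ zpowers a ⊔ zpowers b := fun u =>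
    mul_mem (mem_sup_left (pow_mem (mem_zpowers a) _)) (mem_sup_right (pow_mem (mem_zpowers b) _))
  -- conjugation by `e ∈ S` on `M`
  have hkey : ∀ (s : Finset (ZMod p × ZMod p)) (d : ZMod p × ZMod p),
      (∀ u, u ∈ s ↔ d + u ∈ s) → (∏ u ∈ s, c u) ≠ 1 → g d ≠ 1 →
        ∃ (e : G) (y : G), e ∈ zpowers a ⊔ zpowers b ∧ e ≠ 1 ∧ y ∈ X ∧ y ∉ D ∧
          y⁻¹ * (e * y * e⁻¹) ∈ D := by
    intro s d hd hprod he
    let φ : X →* X :=
      { toFun := fun u => ⟨g d * u * (g d)⁻¹, hconj _ (hgS d) _ u.2⟩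
        map_one' := Subtype.ext (by simp)
        map_mul' := fun u v => Subtype.ext (by simp [mul_assoc]) }
    let ψ : M →* M := QuotientGroup.map _ (D.subgroupOf X) φ (by
      intro u hu
      exact ((hgS d).2 (u : G)).mp hu)
    have hψ : ψ (∏ u ∈ s, c u) = ∏ u ∈ s, c u := by
      rw [map_prod]
      refine Finset.prod_equiv (Equiv.addLeft d) hd fun u _ => ?_
      simp only [ψ, c, QuotientGroup.map_mk, Equiv.coe_addLeft]
      refine congrArg QuotientGroup.mk (Subtype.ext ?_)
      show g d * (g u * x * (g u)⁻¹) * (g d)⁻¹ = g (d + u) * x * (g (d + u))⁻¹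
      rw [hgadd]; group
    obtain ⟨y, hy⟩ := QuotientGroup.mk_surjective (∏ u ∈ s, c u)
    refine ⟨g d, y, hgmem d, he, y.2, fun h => hprod ?_, ?_⟩
    · rw [← hy, QuotientGroup.eq_one_iff]; exact h
    · rw [← hy] at hψ
      simp only [ψ, QuotientGroup.map_mk] at hψ
      have := QuotientGroup.eq.mp hψ.symm
      simpa [Subgroup.mem_subgroupOf, φ, mul_assoc] using this
  have hlinemem : ∀ (j : ZMod p) (d : ZMod p × ZMod p),
      d ∈ Finset.univ.image (fun i : ZMod p => (i, i * j)) ↔ d.2 = d.1 * j := by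
    intro j d
    simp only [Finset.mem_image, Finset.mem_univ, true_and]
    exact ⟨fun ⟨i, hi⟩ => hi ▸ rfl, fun h => ⟨d.1, Prod.ext rfl h.symm⟩⟩
  by_contra hno
  have hp1 : Fact (1 < p) := ⟨(Fact.out : p.Prime).one_lt⟩
  refine hxD ?_
  have hc0 : c (0, 0) ^ p = 1 := by
    refine abelian_fixed_trivial c (fun j => ?_) ?_ ?_
    · by_contra h
      refine hno (hkey (Finset.univ.image fun i : ZMod p => (i, i * j)) (1, j) (fun u => ?_) ?_ ?_)
      · rw [hlinemem, hlinemem, Prod.fst_add, Prod.snd_add, add_mul, one_mul, add_right_inj]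
      · rwa [Finset.prod_image (fun u _ v _ h' => (Prod.ext_iff.mp h').1)]
      · simp only [g, ZMod.val_one, pow_one]
        exact hne j
    · by_contra h
      refine hno (hkey (Finset.univ.image fun j : ZMod p => ((0 : ZMod p), j)) (0, 1) (fun u => ?_) ?_ ?_)
      · simp [Prod.ext_iff]
      · rwa [Finset.prod_image (fun u _ v _ h' => (Prod.ext_iff.mp h').2)]
      · simp only [g, ZMod.val_one, ZMod.val_zero, pow_zero, pow_one, one_mul]
        exact hb1
    · by_contra h
      refine hno (hkey Finset.univ (0, 1) (fun u => by simp) h ?_)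
      simp only [g, ZMod.val_one, ZMod.val_zero, pow_zero, pow_one, one_mul]
      exact hb1
  simp only [c, g, ZMod.val_zero, pow_zero, one_mul, inv_one, mul_one] at hc0
  rw [← QuotientGroup.mk_pow, QuotientGroup.eq_one_iff, Subgroup.mem_subgroupOf] at hc0
  simpa using hc0

omit [Finite G] in
theorem centralizer_zpowers' (g : G) : centralizer (zpowers g : Set G) = centralizer ({g} : Set G) := by
  rw [zpowers_eq_closure, centralizer_closure]

omit [Finite G] in
theorem map_commutator_subtype {X : Subgroup G} :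
    (commutator X).map X.subtype = ⁅X, X⁆ := by
  rw [_root_.commutator_def, map_commutator, ← MonoidHom.range_eq_map, range_subtype]

omit [Finite G] in
theorem normalizer_sup_mem {g : G} {H K : Subgroup G}
    (hH : g ∈ normalizer (H : Set G)) (hK : g ∈ normalizer (K : Set G)) :
    g ∈ normalizer ((H ⊔ K : Subgroup G) : Set G) := by
  apply Cfsg.Agent.Coprime.mem_normalizer_of_map_conj
  rw [Subgroup.map_sup, Cfsg.Agent.Coprime.map_conj_eq hH, Cfsg.Agent.Coprime.map_conj_eq hK]

/-- A noncyclic elementary abelian group of order `p ^ 2` has a nontrivial element centralizing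
something in `X \ D`. -/
theorem exists_centralizer_notMem {p q : ℕ} [Fact p.Prime] [Fact q.Prime] (hqp : q ≠ p)
    {B X D : Subgroup G} (hB : IsElementaryAbelian p B) (hBc : Nat.card B = p ^ 2)
    (hX : IsPGroup q X) (hDX : D ≤ X) (hXD : X ≤ normalizer (D : Set G))
    (hBX : B ≤ normalizer (X : Set G)) (hBD : B ≤ normalizer (D : Set G)) (hne : ¬ X ≤ D) :
    ∃ e ∈ B, e ≠ 1 ∧ ¬ X ⊓ centralizer ({e} : Set G) ≤ D := by
  have hpr : p.Prime := Fact.out
  have hqr : q.Prime := Fact.out
  -- pass to an abelian section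
  induction X using WellFoundedLT.induction with
  | ind X ih =>
    by_cases hcom : ⁅X, X⁆ ≤ D
    · haveI := hB.1
      obtain ⟨a, haB, ha1⟩ := B.bot_or_exists_ne_one.resolve_left (fun h => by
        rw [h, card_bot] at hBc
        exact (Nat.one_lt_pow two_ne_zero hpr.one_lt).ne hBc)
      obtain ⟨b, hbB, hba⟩ : ∃ b ∈ B, b ∉ zpowers a := by
        by_contra hcon
        simp only [not_exists, not_and, not_not] at hcon
        have h1 := card_dvd_of_le (K := zpowers a) hcon
        rw [hBc, Nat.card_zpowers, orderOf_eq_prime (hB.2 a haB) ha1] at h1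
        have h2 := Nat.le_of_dvd hpr.pos h1
        have h3 : p * 2 ≤ p * p := Nat.mul_le_mul_left p hpr.two_le
        rw [pow_two] at h2; have := hpr.pos; omega
      obtain ⟨x, hxX, hxD⟩ := SetLike.not_le_iff_exists.mp hne
      have hxp : x ^ p ∉ D := by
        intro h
        obtain ⟨m, hm⟩ := hX ⟨x, hxX⟩
        have hm' : x ^ q ^ m = 1 := by simpa using congrArg Subtype.val hm
        have hco : p.Coprime (q ^ m) := ((Nat.coprime_primes hpr hqr).mpr hqp.symm).pow_right m
        obtain ⟨w, hw⟩ : ∃ w, (x ^ p) ^ w = x := by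
          obtain ⟨w, hw⟩ := Nat.exists_mul_mod_eq_one_of_coprime hco (Nat.one_lt_pow (fun h0 => by
            subst h0; simp at hm'; exact hxD (hm' ▸ D.one_mem)) hqr.one_lt)
          refine ⟨w, ?_⟩
          rw [← pow_mul, pow_eq_pow_mod _ hm', hw.2, pow_one]
        exact hxD (hw ▸ D.pow_mem h w)
      have hab : a * b = b * a := congrArg Subtype.val (mul_comm' (⟨a, haB⟩ : B) ⟨b, hbB⟩)
      obtain ⟨e, y, he, he1, hyX, hyD, hyfix⟩ := exists_fixed_coset hab (hB.2 a haB) (hB.2 b hbB)
        (fun i h => hba (by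
          have hb1 : b ^ i.val = a⁻¹ := eq_inv_of_mul_eq_one_right h
          by_cases hi : i = 0
          · subst hi; simp at hb1; exact absurd hb1 (fun h' => ha1 h')
          · have hco : i.val.Coprime p := (hpr.coprime_iff_not_dvd.mpr (fun hd => hi (by
                have := Nat.eq_zero_of_dvd_of_lt hd (ZMod.val_lt i)
                exact (ZMod.val_eq_zero i).mp this))).symm
            obtain ⟨w, hw⟩ := Nat.exists_mul_mod_eq_one_of_coprime hco hpr.one_lt
            have hbw : b = (b ^ i.val) ^ w := by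
              rw [← pow_mul, pow_eq_pow_mod _ (hB.2 b hbB), hw.2, pow_one]
            rw [hbw, hb1]
            exact pow_mem (inv_mem (mem_zpowers a)) w))
        (fun h => hba (h ▸ one_mem _)) hDX hXD hcom (hBX haB) (hBD haB) (hBX hbB) (hBD hbB) hxX hxp
      have heB : e ∈ B := sup_le (zpowers_le.mpr haB) (zpowers_le.mpr hbB) he
      refine ⟨e, heB, he1, fun hle => hyD ?_⟩
      have hcop : (Nat.card (zpowers e)).Coprime (Nat.card X) := by
        obtain ⟨n, hn⟩ := IsPGroup.iff_card.mp hX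
        rw [hn, Nat.card_zpowers, orderOf_eq_prime (hB.2 e heB) he1]
        exact ((Nat.coprime_primes hpr hqr).mpr hqp.symm).pow_right n
      have hfix : ∀ z ∈ zpowers e, y⁻¹ * (z * y * z⁻¹) ∈ D := by
        intro z hz
        obtain ⟨i, rfl⟩ := mem_zpowers_iff.mp hz
        -- `e` fixes the coset `y D`
        let T : Subgroup G :=
          { carrier := {t | t ∈ normalizer (D : Set G) ∧ y⁻¹ * (t * y * t⁻¹) ∈ D}
            one_mem' := ⟨one_mem _, by simp [D.one_mem]⟩
            mul_mem' := by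
              intro s t hs ht
              refine ⟨mul_mem hs.1 ht.1, ?_⟩
              have := D.mul_mem hs.2 (Cfsg.Agent.Coprime.conj_mem hs.1 ht.2)
              convert this using 1
              group
            inv_mem' := by
              intro s hs
              refine ⟨inv_mem hs.1, ?_⟩
              have := Cfsg.Agent.Coprime.conj_mem (inv_mem hs.1) (D.inv_mem hs.2)
              convert this using 1
              group }
        exact (T.zpow_mem (show e ∈ T from ⟨hBD heB, hyfix⟩) i).2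
      obtain ⟨c, hc, hcy⟩ := Cfsg.Agent.Coprime.exists_centralizer_mem_coset (A := zpowers e) (K := X)
        (zpowers_le.mpr (hBX heB)) hcop (Or.inl (Cfsg.Agent.Coprime.isSolvable_zpowers e)) hDX
        (zpowers_le.mpr (hBD heB)) hyX hfix
      have hcD : c ∈ D := hle ⟨hc.1, by
        have := hc.2
        rw [centralizer_zpowers'] at this
        exact this⟩
      have := D.mul_mem hcD (D.inv_mem hcy)
      simpa [mul_assoc] using this
    · have hXX : X ≤ normalizer (X : Set G) := le_normalizer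
      have hlt : ⁅X, X⁆ ⊔ D < X := by
        refine lt_of_le_of_ne (sup_le (Cfsg.Agent.Coprime.commutator_le_left_of_normalizer hXX) hDX) ?_
        intro heq
        refine hne ?_
        haveI : Group.IsNilpotent X := hX.isNilpotent
        haveI : (D.subgroupOf X).Normal := normal_subgroupOf_of_le_normalizer hXD
        have hq : IsPGroup q (X ⧸ D.subgroupOf X) := hX.to_quotient _
        haveI := hq.isNilpotent
        by_contra hneD
        haveI : Nontrivial (X ⧸ D.subgroupOf X) := by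
          refine QuotientGroup.nontrivial_iff.mpr fun h => hneD ?_
          exact subgroupOf_eq_top.mp h
        refine (Group.IsSolvable.commutator_lt_top_of_nontrivial (X ⧸ D.subgroupOf X)).ne ?_
        have hmap : (⁅X, X⁆ ⊔ D).subgroupOf X = ⊤ := by rw [heq, subgroupOf_self]
        have htop : (commutator X).map (QuotientGroup.mk' (D.subgroupOf X)) = ⊤ := by
          rw [eq_top_iff]
          intro z _
          obtain ⟨u, rfl⟩ := QuotientGroup.mk'_surjective _ z
          have hu : u ∈ commutator X ⊔ D.subgroupOf X := by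
            have h1 : commutator X ⊔ D.subgroupOf X = ⊤ := by
              apply map_injective X.subtype_injective
              rw [Subgroup.map_sup, map_commutator_subtype, subgroupOf_map_subtype, inf_eq_left.mpr hDX,
                ← MonoidHom.range_eq_map, range_subtype]
              exact heq
            rw [h1]; exact mem_top u
          have h2 := mem_map_of_mem (QuotientGroup.mk' (D.subgroupOf X)) hu
          rwa [Subgroup.map_sup, QuotientGroup.map_mk'_self, sup_bot_eq] at h2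
        rw [_root_.commutator_def, map_commutator, ← MonoidHom.range_eq_map,
          MonoidHom.range_eq_top.mpr (QuotientGroup.mk'_surjective _)] at htop
        exact htop
      obtain ⟨e, he, he1, hle⟩ := ih _ hlt (hX.to_le hlt.le) le_sup_right (hlt.le.trans hXD)
        (fun b hb => normalizer_sup_mem (le_normalizer_commutator hBX hBX hb) (hBD hb))
        (fun h => hcom (le_sup_left.trans h))
      exact ⟨e, he, he1, fun h => hle ((inf_le_inf_right _ hlt.le).trans h)⟩

/-- In an elementary abelian group of order `p ^ 3`, some subgroup of order `p ^ 2` centralizes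
something in `X \ D`. -/
theorem exists_plane_centralizer_notMem {p q : ℕ} [Fact p.Prime] [Fact q.Prime] (hqp : q ≠ p)
    {A X D : Subgroup G} (hA : IsElementaryAbelian p A) (hAc : Nat.card A = p ^ 3)
    (hX : IsPGroup q X) (hDX : D ≤ X) (hXD : X ≤ normalizer (D : Set G))
    (hAX : A ≤ normalizer (X : Set G)) (hAD : A ≤ normalizer (D : Set G)) (hne : ¬ X ≤ D) :
    ∃ B ≤ A, Nat.card B = p ^ 2 ∧ ¬ X ⊓ centralizer (B : Set G) ≤ D := by
  have hpr : p.Prime := Fact.out
  haveI := hA.1
  have hcomm : ∀ u ∈ A, ∀ v ∈ A, u * v = v * u := fun u hu v hv =>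
    congrArg Subtype.val (mul_comm' (⟨u, hu⟩ : A) ⟨v, hv⟩)
  have hz : ∀ u ∈ A, u ≠ 1 → Nat.card (zpowers u) = p := fun u hu hu1 => by
    rw [Nat.card_zpowers, orderOf_eq_prime (hA.2 u hu) hu1]
  have hel : ∀ B ≤ A, IsElementaryAbelian p B := fun B hB =>
    ⟨le_centralizer_iff_isMulCommutative.mp fun u hu v hv => hcomm v (hB hv) u (hB hu),
      fun u hu => hA.2 u (hB hu)⟩
  -- a subgroup of order `p ^ 2` avoiding a given element
  have hplane : ∀ u ∈ A, ∀ v ∈ A, v ∉ zpowers u → Nat.card ↥(zpowers u ⊔ zpowers v) ∣ p ^ 3 → u ≠ 1 →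
      Nat.card ↥(zpowers u ⊔ zpowers v) = p ^ 2 := by
    intro u hu v hv hvu _ hu1
    have hv1 : v ≠ 1 := fun h => hvu (h ▸ one_mem _)
    have hd : zpowers u ⊓ zpowers v = ⊥ := by
      by_contra hne'
      have hfac : Fact (Nat.card (zpowers v)).Prime := ⟨(hz v hv hv1).symm ▸ hpr⟩
      rcases ((zpowers u).subgroupOf (zpowers v)).eq_bot_or_eq_top_of_prime_card with h | h
      · rw [subgroupOf_eq_bot, disjoint_iff] at h
        exact hne' h
      · exact hvu (subgroupOf_eq_top.mp h (mem_zpowers v))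
    rw [Cfsg.Agent.Coprime.card_sup (fun w hw => centralizer_le_normalizer _
        (fun z hz' => hcomm z (zpowers_le.mpr hu hz') w (zpowers_le.mpr hv hw))) hd,
      hz u hu hu1, hz v hv hv1, pow_two]
  have hout : ∀ B ≤ A, Nat.card B ≠ p ^ 3 → ∃ w ∈ A, w ∉ B := fun B hB hc => by
    by_contra h
    simp only [not_exists, not_and, not_not] at h
    exact hc (by rw [le_antisymm hB h, hAc])
  obtain ⟨u, hu, hu1⟩ := A.bot_or_exists_ne_one.resolve_left (fun h => by
    rw [h, card_bot] at hAc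
    exact (Nat.one_lt_pow three_ne_zero hpr.one_lt).ne hAc)
  have hp23 : p ^ 2 ≠ p ^ 3 := fun h => by simpa using Nat.pow_right_injective hpr.two_le h
  have hp13 : p ≠ p ^ 3 := fun h => by
    have := Nat.pow_right_injective hpr.two_le (show p ^ 1 = p ^ 3 by simpa using h)
    omega
  obtain ⟨v, hv, hvu⟩ := hout _ (zpowers_le.mpr hu) (by rw [hz u hu hu1]; exact hp13)
  have hUV := hplane u hu v hv hvu (hAc ▸ card_dvd_of_le (sup_le (zpowers_le.mpr hu) (zpowers_le.mpr hv))) hu1
  obtain ⟨e, he, he1, hXe⟩ := exists_centralizer_notMem hqp (hel _ (sup_le (zpowers_le.mpr hu) (zpowers_le.mpr hv)))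
    hUV hX hDX hXD ((sup_le (zpowers_le.mpr hu) (zpowers_le.mpr hv)).trans hAX)
    ((sup_le (zpowers_le.mpr hu) (zpowers_le.mpr hv)).trans hAD) hne
  have heA : e ∈ A := sup_le (zpowers_le.mpr hu) (zpowers_le.mpr hv) he
  -- second element
  obtain ⟨b, hb, hbe⟩ := hout _ (zpowers_le.mpr heA) (by rw [hz e heA he1]; exact hp13)
  have hEB := hplane e heA b hb hbe (hAc ▸ card_dvd_of_le (sup_le (zpowers_le.mpr heA) (zpowers_le.mpr hb))) he1
  obtain ⟨c, hc, hceb⟩ := hout _ (sup_le (zpowers_le.mpr heA) (zpowers_le.mpr hb)) (by rw [hEB]; exact hp23)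
  have hb1 : b ≠ 1 := fun h => hbe (h ▸ one_mem _)
  have hcb : c ∉ zpowers b := fun h => hceb (mem_sup_right h)
  have hBC := hplane b hb c hc hcb (hAc ▸ card_dvd_of_le (sup_le (zpowers_le.mpr hb) (zpowers_le.mpr hc))) hb1
  have heBC : e ∉ zpowers b ⊔ zpowers c := by
    intro h
    have hle : zpowers e ⊔ zpowers b ≤ zpowers b ⊔ zpowers c := sup_le (zpowers_le.mpr h) le_sup_left
    have := eq_of_le_of_card_ge hle (by rw [hBC, hEB])
    exact hceb (this ▸ mem_sup_right (mem_zpowers c))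
  set B := zpowers b ⊔ zpowers c with hBdef
  have hBA : B ≤ A := sup_le (zpowers_le.mpr hb) (zpowers_le.mpr hc)
  set X₁ := X ⊓ centralizer ({e} : Set G) with hX₁
  have hAce : A ≤ normalizer (centralizer ({e} : Set G) : Set G) := fun w hw =>
    le_normalizer (by rw [mem_centralizer_singleton_iff]; exact hcomm w hw e heA)
  have hinfn : ∀ {S H K : Subgroup G}, S ≤ normalizer (H : Set G) → S ≤ normalizer (K : Set G) →
      S ≤ normalizer ((H ⊓ K : Subgroup G) : Set G) := fun {S H K} hH hK s hs n => by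
    simp only [coe_inf, Set.mem_inter_iff]
    exact and_congr (hH hs n) (hK hs n)
  obtain ⟨f, hf, hf1, hXf⟩ := exists_centralizer_notMem hqp (hel B hBA) hBC (hX.to_le inf_le_left)
    (D := D ⊓ X₁) inf_le_right
    (hinfn (inf_le_left.trans hXD) le_normalizer)
    (hBA.trans (hinfn hAX hAce)) (hBA.trans (hinfn hAD (hinfn hAX hAce)))
    (fun h => hXe (h.trans inf_le_left))
  have hfe : f ∉ zpowers e := by
    intro h
    apply heBC
    have heq : zpowers f = zpowers e :=
      eq_of_le_of_card_ge (zpowers_le.mpr h) (by rw [hz e heA he1, hz f (hBA hf) hf1])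
    exact zpowers_le.mpr hf (heq ▸ mem_zpowers e)
  refine ⟨zpowers e ⊔ zpowers f, sup_le (zpowers_le.mpr heA) (zpowers_le.mpr (hBA hf)),
    hplane e heA f (hBA hf) hfe (hAc ▸ card_dvd_of_le (sup_le (zpowers_le.mpr heA) (zpowers_le.mpr (hBA hf)))) he1, fun h => hXf ?_⟩
  intro w hw
  refine ⟨h ⟨hw.1.1, ?_⟩, hw.1⟩
  refine le_centralizer_iff.mp (sup_le ?_ ?_ : zpowers e ⊔ zpowers f ≤ centralizer (zpowers w : Set G))
    (mem_zpowers w)
  · rw [zpowers_le, centralizer_zpowers', mem_centralizer_singleton_iff]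
    exact (mem_centralizer_singleton_iff.mp hw.1.2).symm
  · rw [zpowers_le, centralizer_zpowers', mem_centralizer_singleton_iff]
    exact (mem_centralizer_singleton_iff.mp hw.2).symm

/-- An elementary abelian subgroup of order exactly `p ^ 3`. -/
theorem exists_card_cube {p : ℕ} [Fact p.Prime] {A : Subgroup G} (hA : IsElementaryAbelian p A)
    (h : p ^ 3 ≤ Nat.card A) : ∃ B ≤ A, IsElementaryAbelian p B ∧ Nat.card B = p ^ 3 := by
  have hp : IsPGroup p A := fun u => ⟨1, Subtype.ext (by simpa using hA.2 u u.2)⟩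
  obtain ⟨n, hn⟩ := IsPGroup.iff_card.mp hp
  have h3 : 3 ≤ n := (Nat.pow_le_pow_iff_right (Fact.out : p.Prime).one_lt).mp (hn ▸ h)
  obtain ⟨K, hK⟩ := Sylow.exists_subgroup_card_pow_prime p (G := A) (n := 3) (hn ▸ pow_dvd_pow p h3)
  refine ⟨K.map A.subtype, map_subtype_le K, ⟨?_, fun u hu => hA.2 u (map_subtype_le K hu)⟩, ?_⟩
  · refine le_centralizer_iff_isMulCommutative.mp fun u hu v hv => ?_
    haveI := hA.1
    exact congrArg Subtype.val
      (mul_comm' (⟨v, map_subtype_le K hv⟩ : A) ⟨u, map_subtype_le K hu⟩)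
  · rw [card_map_of_injective A.subtype_injective, hK]

/-- The transitivity argument. -/
theorem transitivity {p q : ℕ} [Fact p.Prime] [Fact q.Prime] (hqp : q ≠ p) (E : Subgroup G)
    (hEp : IsPGroup p E) (hEc : IsMulCommutative E)
    (hE3 : ∃ A ≤ E, IsElementaryAbelian p A ∧ p ^ 3 ≤ Nat.card A)
    (K : Subgroup G) (hKC : K ≤ centralizer (E : Set G))
    (hK : ∀ V : Subgroup G, V ≤ centralizer (E : Set G) → (Nat.card V).Coprime p → V ≤ K)
    (hker : ∀ a ∈ E, a ≠ 1 → ∀ Y : Subgroup G, Y ≤ centralizer ({a} : Set G) → IsPGroup q Y →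
      E ≤ normalizer (Y : Set G) →
        Y ≤ (pPrimeCore p ↥(normalizer (zpowers a : Set G))).map (normalizer (zpowers a : Set G)).subtype)
    (Q₁ Q₂ : Subgroup G)
    (h₁ : Maximal (fun R : Subgroup G => IsPGroup q R ∧ E ≤ normalizer (R : Set G)) Q₁)
    (h₂ : Maximal (fun R : Subgroup G => IsPGroup q R ∧ E ≤ normalizer (R : Set G)) Q₂) :
    ∃ k ∈ K, Q₂ = Q₁.map (MulAut.conj k).toMonoidHom := by
  have hpr : p.Prime := Fact.out
  have hqr : q.Prime := Fact.out
  obtain ⟨A', hA'E, hA'el, hA'3⟩ := hE3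
  obtain ⟨A, hAA', hAel, hAc⟩ := exists_card_cube hA'el hA'3
  have hAE : A ≤ E := hAA'.trans hA'E
  have hinfn : ∀ {S H K : Subgroup G}, S ≤ normalizer (H : Set G) → S ≤ normalizer (K : Set G) →
      S ≤ normalizer ((H ⊓ K : Subgroup G) : Set G) := fun {S H K} hH hK s hs n => by
    simp only [coe_inf, Set.mem_inter_iff]
    exact and_congr (hH hs n) (hK hs n)
  have hnn : ∀ {S H : Subgroup G}, S ≤ normalizer (H : Set G) →
      S ≤ normalizer ((normalizer (H : Set G) : Subgroup G) : Set G) := fun hS => hS.trans le_normalizer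
  haveI : Group.IsSolvable E := by haveI := hEp.isNilpotent; infer_instance
  obtain ⟨D, hD⟩ : ∃ D, D = Q₁ ⊓ Q₂ := ⟨_, rfl⟩
  induction D using WellFoundedGT.induction generalizing Q₁ Q₂ with
  | ind D ih =>
    by_cases heq : Q₁ = Q₂
    · refine ⟨1, one_mem _, ?_⟩
      rw [Cfsg.Agent.Coprime.map_conj_one]; exact heq.symm
    have hED : E ≤ normalizer (D : Set G) := hD ▸ hinfn h₁.1.2 h₂.1.2
    -- the normalizers of `D` in `Q₁`, `Q₂`
    have hN : ∀ Q : Subgroup G, IsPGroup q Q → D < Q → ¬ (Q ⊓ normalizer (D : Set G)) ≤ D := by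
      intro Q hQ hDQ hle
      haveI : Group.IsNilpotent Q := hQ.isNilpotent
      have hlt : D.subgroupOf Q < ⊤ := lt_top_iff_ne_top.mpr fun h => hDQ.not_ge (subgroupOf_eq_top.mp h)
      obtain ⟨n, hn, hn'⟩ := SetLike.exists_of_lt (Group.normalizerCondition_of_isNilpotent (G := Q) _ hlt)
      refine hn' (hle ⟨n.2, fun c => ⟨fun hc => (hn ⟨c, hDQ.le hc⟩).mp hc, fun hc => ?_⟩⟩)
      have hcQ : c ∈ Q := by
        have := Q.mul_mem (Q.mul_mem (Q.inv_mem n.2) (hDQ.le hc)) n.2
        simpa [mul_assoc] using this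
      exact (hn ⟨c, hcQ⟩).mpr hc
    have hD₁ : D < Q₁ := lt_of_le_of_ne (hD ▸ inf_le_left) fun h =>
      heq (h₁.eq_of_le h₂.1 (by rw [← h, hD]; exact inf_le_right))
    have hD₂ : D < Q₂ := lt_of_le_of_ne (hD ▸ inf_le_right) fun h =>
      heq (h₂.eq_of_le h₁.1 (by rw [← h, hD]; exact inf_le_left)).symm
    set N₁ := Q₁ ⊓ normalizer (D : Set G) with hN₁
    set N₂ := Q₂ ⊓ normalizer (D : Set G) with hN₂
    obtain ⟨B₁, hB₁A, hB₁c, hX₁⟩ := exists_plane_centralizer_notMem hqp hAel hAc
      (h₁.1.1.to_le (inf_le_left : N₁ ≤ Q₁)) (le_inf hD₁.le le_normalizer) inf_le_right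
      (hAE.trans (hinfn h₁.1.2 (hnn hED))) (hAE.trans hED) (hN Q₁ h₁.1.1 hD₁)
    obtain ⟨B₂, hB₂A, hB₂c, hX₂⟩ := exists_plane_centralizer_notMem hqp hAel hAc
      (h₂.1.1.to_le (inf_le_left : N₂ ≤ Q₂)) (le_inf hD₂.le le_normalizer) inf_le_right
      (hAE.trans (hinfn h₂.1.2 (hnn hED))) (hAE.trans hED) (hN Q₂ h₂.1.1 hD₂)
    obtain ⟨a, ⟨ha₁, ha₂⟩, ha⟩ : ∃ a ∈ B₁ ⊓ B₂, a ≠ (1 : G) := by
      refine (B₁ ⊓ B₂).bot_or_exists_ne_one.resolve_left fun h => ?_
      haveI := hAel.1
      have hn' : B₂ ≤ normalizer (B₁ : Set G) := fun w hw => centralizer_le_normalizer _ fun z hz =>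
        congrArg Subtype.val (mul_comm' (⟨z, hB₁A hz⟩ : A) ⟨w, hB₂A hw⟩)
      have h4 := card_dvd_of_le (sup_le hB₁A hB₂A)
      rw [Cfsg.Agent.Coprime.card_sup hn' h, hB₁c, hB₂c, hAc, ← pow_add] at h4
      exact absurd ((Nat.pow_dvd_pow_iff_le_right hpr.one_lt).mp h4) (by norm_num)
    have haE : a ∈ E := hAE (hB₁A ha₁)
    have hca : ∀ {B : Subgroup G}, a ∈ B → centralizer (B : Set G) ≤ centralizer ({a} : Set G) :=
      fun h => centralizer_le (Set.singleton_subset_iff.mpr h)
    have hEa : E ≤ centralizer ({a} : Set G) := fun w hw => by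
      rw [mem_centralizer_singleton_iff]
      exact congrArg Subtype.val (mul_comm' (⟨w, hw⟩ : E) ⟨a, haE⟩)
    set X₁ := N₁ ⊓ centralizer ({a} : Set G) with hX₁def
    set X₂ := N₂ ⊓ centralizer ({a} : Set G) with hX₂def
    have hX₁D : ¬ X₁ ≤ D := fun h => hX₁ ((inf_le_inf_left _ (hca ha₁)).trans h)
    have hX₂D : ¬ X₂ ≤ D := fun h => hX₂ ((inf_le_inf_left _ (hca ha₂)).trans h)
    set NA := normalizer (zpowers a : Set G) with hNA
    set O := (pPrimeCore p ↥NA).map NA.subtype with hO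
    set W := O ⊓ centralizer ({a} : Set G) ⊓ normalizer (D : Set G) with hW
    have hCN : centralizer ({a} : Set G) ≤ NA := by
      rw [hNA, ← centralizer_zpowers']; exact centralizer_le_normalizer _
    have hEW : E ≤ normalizer (W : Set G) := by
      refine hinfn (hinfn ?_ (hEa.trans le_normalizer)) (hnn hED)
      intro w hw
      apply Cfsg.Agent.Coprime.mem_normalizer_of_map_conj
      have hwN : w ∈ NA := hCN (hEa hw)
      rw [hO, map_map]
      conv_rhs => rw [← Cfsg.Agent.Coprime.map_conj_eq (H := pPrimeCore p ↥NA) (g := (⟨w, hwN⟩ : NA))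
        (by rw [normalizer_eq_top]; exact mem_top _), map_map]
      rfl
    have hWcop : (Nat.card W).Coprime p := by
      refine Nat.Coprime.coprime_dvd_left (card_dvd_of_le (inf_le_left.trans inf_le_left : W ≤ O)) ?_
      rw [hO, card_map_of_injective NA.subtype_injective]
      exact Cfsg.Agent.Cores.coprime_card_pPrimeCore
    have hcop : (Nat.card E).Coprime (Nat.card W) := by
      obtain ⟨n, hn⟩ := IsPGroup.iff_card.mp hEp
      rw [hn]; exact (hWcop.pow_right n).symm
    have hXW : ∀ Q : Subgroup G, IsPGroup q Q → E ≤ normalizer (Q : Set G) →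
        (Q ⊓ normalizer (D : Set G)) ⊓ centralizer ({a} : Set G) ≤ W := by
      intro Q hQ hEQ
      refine le_inf (le_inf (hker a haE ha _ inf_le_right (hQ.to_le (inf_le_left.trans inf_le_left))
        (hinfn (hinfn hEQ (hnn hED)) (hEa.trans le_normalizer))) inf_le_right) (inf_le_left.trans inf_le_right)
    have hEX : ∀ Q : Subgroup G, E ≤ normalizer (Q : Set G) →
        E ≤ normalizer (((Q ⊓ normalizer (D : Set G)) ⊓ centralizer ({a} : Set G) : Subgroup G) : Set G) :=
      fun Q hEQ => hinfn (hinfn hEQ (hnn hED)) (hEa.trans le_normalizer)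
    obtain ⟨P₁, hP₁, hEP₁⟩ := Cfsg.Agent.Coprime.exists_invariant_sylow_ge hEW hcop (Or.inl inferInstance)
      q (hXW Q₁ h₁.1.1 h₁.1.2) (h₁.1.1.to_le (inf_le_left.trans inf_le_left)) (hEX Q₁ h₁.1.2)
    obtain ⟨P₂, hP₂, hEP₂⟩ := Cfsg.Agent.Coprime.exists_invariant_sylow_ge hEW hcop (Or.inl inferInstance)
      q (hXW Q₂ h₂.1.1 h₂.1.2) (h₂.1.1.to_le (inf_le_left.trans inf_le_left)) (hEX Q₂ h₂.1.2)
    obtain ⟨c, hcE, hcP⟩ := Cfsg.Agent.Coprime.exists_conj_invariant_sylow hEW hcop (Or.inl inferInstance)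
      q P₁ P₂ hEP₁ hEP₂
    set P := (P₂ : Subgroup W).map W.subtype with hPdef
    have hPW : P ≤ W := map_subtype_le _
    have hconjP : ((P₁ : Subgroup W).map W.subtype).map (MulAut.conj (c : G)).toMonoidHom = P := by
      rw [hPdef, ← hcP, Subgroup.map_map]
      show _ = ((P₁ : Subgroup W).map (MulAut.conj c).toMonoidHom).map W.subtype
      rw [Subgroup.map_map]
      rfl
    -- an invariant `q`-group containing `D`, a conjugate of `X₁`, and `X₂`
    have hPD : P ≤ normalizer (D : Set G) := hPW.trans inf_le_right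
    have hq' : IsPGroup q ↥(P ⊔ D) :=
      (P₂.isPGroup'.map W.subtype).to_sup_of_normal_right' (h₁.1.1.to_le hD₁.le) hPD
    have hE' : E ≤ normalizer ((P ⊔ D : Subgroup G) : Set G) := fun w hw => by
      apply Cfsg.Agent.Coprime.mem_normalizer_of_map_conj
      rw [Subgroup.map_sup, Cfsg.Agent.Coprime.map_conj_eq (hEP₂ hw), Cfsg.Agent.Coprime.map_conj_eq (hED hw)]
    obtain ⟨Q₃, hle₃, h₃⟩ := (Set.toFinite {R : Subgroup G | IsPGroup q R ∧ E ≤ normalizer (R : Set G)}).exists_le_maximal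
      (a := P ⊔ D) ⟨hq', hE'⟩
    -- conjugating `Q₁` by `c`
    have hcK : (c : G) ∈ K := by
      refine hK (zpowers (c : G)) (zpowers_le.mpr hcE) ?_ (mem_zpowers _)
      exact hWcop.coprime_dvd_left (card_dvd_of_le (zpowers_le.mpr c.2))
    have hconjinv : ∀ g ∈ centralizer (E : Set G), ∀ R : Subgroup G,
        IsPGroup q R ∧ E ≤ normalizer (R : Set G) →
        IsPGroup q ↥(R.map (MulAut.conj g).toMonoidHom) ∧
          E ≤ normalizer ((R.map (MulAut.conj g).toMonoidHom : Subgroup G) : Set G) := by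
      intro g hg R hR
      refine ⟨hR.1.map _, fun w hw => ?_⟩
      apply Cfsg.Agent.Coprime.mem_normalizer_of_map_conj
      rw [Cfsg.Agent.Coprime.map_conj_map_conj, hg w hw, ← Cfsg.Agent.Coprime.map_conj_map_conj,
        Cfsg.Agent.Coprime.map_conj_eq (hR.2 hw)]
    have hmax₁ : Maximal (fun R : Subgroup G => IsPGroup q R ∧ E ≤ normalizer (R : Set G))
        (Q₁.map (MulAut.conj (c : G)).toMonoidHom) := by
      refine ⟨hconjinv _ hcE _ h₁.1, fun R hR hle => ?_⟩
      have h' := hconjinv _ (inv_mem hcE) R hR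
      have hle' : Q₁ ≤ R.map (MulAut.conj (c : G)⁻¹).toMonoidHom := by
        have := Subgroup.map_mono (f := (MulAut.conj (c : G)⁻¹).toMonoidHom) hle
        rwa [Cfsg.Agent.Coprime.map_conj_map_conj, inv_mul_cancel, Cfsg.Agent.Coprime.map_conj_one] at this
      have := Subgroup.map_mono (f := (MulAut.conj (c : G)).toMonoidHom) (h₁.le_of_ge h' hle')
      rwa [Cfsg.Agent.Coprime.map_conj_map_conj, mul_inv_cancel, Cfsg.Agent.Coprime.map_conj_one] at this
    have hcD : D.map (MulAut.conj (c : G)).toMonoidHom = D := Cfsg.Agent.Coprime.map_conj_eq c.2.2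
    have hlt₁ : D < Q₁.map (MulAut.conj (c : G)).toMonoidHom ⊓ Q₃ := by
      refine lt_of_le_of_ne (le_inf (hcD ▸ Subgroup.map_mono hD₁.le) (le_sup_right.trans hle₃)) fun h => hX₁D ?_
      have h1 : X₁.map (MulAut.conj (c : G)).toMonoidHom ≤ D := by
        rw [h]
        refine le_inf (Subgroup.map_mono (inf_le_left.trans inf_le_left)) ?_
        refine le_trans ?_ (le_sup_left.trans hle₃)
        rw [← hconjP]
        exact Subgroup.map_mono hP₁
      rw [← hcD] at h1
      exact (Subgroup.map_le_map_iff_of_injective (MulAut.conj (c : G)).injective).mp h1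
    have hlt₂ : D < Q₃ ⊓ Q₂ := by
      refine lt_of_le_of_ne (le_inf (le_sup_right.trans hle₃) hD₂.le) fun h => hX₂D ?_
      rw [h]
      exact le_inf (hP₂.trans (le_sup_left.trans hle₃)) (inf_le_left.trans inf_le_left)
    obtain ⟨k₁, hk₁, e₁⟩ := ih _ hlt₁ _ Q₃ hmax₁ h₃ rfl
    obtain ⟨k₂, hk₂, e₂⟩ := ih _ hlt₂ Q₃ Q₂ h₃ h₂ rfl
    refine ⟨k₂ * (k₁ * c), mul_mem hk₂ (mul_mem hk₁ hcK), ?_⟩
    rw [e₂, e₁, Cfsg.Agent.Coprime.map_conj_map_conj, Cfsg.Agent.Coprime.map_conj_map_conj, mul_assoc]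

/-- The kernel hypothesis of `transitivity` from `p`-constraint of the local subgroup. -/
theorem invariant_le_core {p q : ℕ} [Fact p.Prime] [Fact q.Prime] (hqp : q ≠ p)
    (E : Subgroup G) (hEp : IsPGroup p E)
    (hEfull : ∀ x ∈ centralizer (E : Set G), IsPGroup p (zpowers x) → x ∈ E)
    (h2 : p = 2 → ∀ S : Subgroup G, IsPGroup p S → ⁅⁅S, S⁆, S⁆ = ⊥)
    (H : Subgroup G) (hH : IsPConstrained p H) (hEH : E ≤ H)
    (Y : Subgroup G) (hYH : Y ≤ H) (hY : IsPGroup q Y) (hEY : E ≤ normalizer (Y : Set G)) :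
    Y ≤ (pPrimeCore p H).map H.subtype := by
  have hmap : ∀ {V : Subgroup G}, V ≤ H → (V.subgroupOf H).map H.subtype = V := fun hV => by
    rw [subgroupOf_map_subtype, inf_eq_left.mpr hV]
  rw [← hmap hYH]
  refine Subgroup.map_mono (le_pPrimeCore_of_invariant hH (E.subgroupOf H) (Y.subgroupOf H)
    hEp.comap_subtype ?_ ?_ ?_ ?_)
  · intro x hx hxp
    refine hEfull x (fun w hw => congrArg Subtype.val (hx ⟨w, hEH hw⟩ hw)) ?_
    have := hxp.map H.subtype
    rwa [MonoidHom.map_zpowers] at this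
  · intro w hw n
    exact hEY hw (n : G)
  · rw [← card_map_of_injective H.subtype_injective, hmap hYH]
    obtain ⟨n, hn⟩ := IsPGroup.iff_card.mp hY
    rw [hn]
    exact ((Nat.coprime_primes (Fact.out : q.Prime) (Fact.out : p.Prime)).mpr hqp).pow_left n
  · intro hp2 S hS
    apply Subgroup.map_injective H.subtype_injective
    rw [map_commutator, map_commutator, Subgroup.map_bot]
    exact h2 hp2 _ (hS.map _)

end Cfsg.Agent.H42

namespace Cfsg.Agent.H42

open Subgroup
open Cfsg

/-- If `E` contains every `p`-element of its centralizer then every `p'`-subgroup of the centralizer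
lies in `O_{p'}` of it. -/
theorem le_piCoreOf_centralizer {G : Type*} [Group G] [Finite G] {p : ℕ} [hp : Fact p.Prime]
    (E : Subgroup G) (hEp : IsPGroup p E) (hEc : IsMulCommutative E)
    (hEfull : ∀ x ∈ centralizer (E : Set G), IsPGroup p (zpowers x) → x ∈ E)
    (V : Subgroup G) (hV : V ≤ centralizer (E : Set G)) (hVc : (Nat.card V).Coprime p) :
    V ≤ piCoreOf (primesNotDvd p) (centralizer (E : Set G)) := by
  set C := centralizer (E : Set G) with hC
  have hEC : E ≤ C := le_centralizer_iff_isMulCommutative.mpr hEc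
  let E' := E.subgroupOf C
  have hEcen : ∀ e ∈ E', ∀ c : C, c * e = e * c := fun e he c => Subtype.ext (c.2 (e : G) he).symm
  haveI : E'.Normal := ⟨fun e he c => by
    rw [hEcen e he c, mul_inv_cancel_right]; exact he⟩
  have hE'p : IsPGroup p E' := hEp.comap_subtype
  have hidx : ¬ p ∣ E'.index := by
    intro hdvd
    rw [Subgroup.index_eq_card] at hdvd
    obtain ⟨u, hu⟩ := exists_prime_orderOf_dvd_card' p hdvd
    obtain ⟨v, rfl⟩ := QuotientGroup.mk'_surjective E' u
    obtain ⟨k, hk, hk'⟩ := exists_pPart (p := p) v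
    have h1 := hk' _ (QuotientGroup.mk' E') 1 (by
      rw [pow_one]
      exact orderOf_dvd_iff_pow_eq_one.mp hu.dvd)
    have hmem : ((v ^ k : C) : G) ∈ E := by
      refine hEfull _ (v ^ k : C).2 ?_
      have := hk.map C.subtype
      rwa [MonoidHom.map_zpowers] at this
    rw [← map_pow] at h1
    rw [← h1, show QuotientGroup.mk' E' (v ^ k) = 1 from (QuotientGroup.eq_one_iff _).mpr hmem,
      orderOf_one] at hu
    exact hp.out.ne_one hu.symm
  obtain ⟨n, hn⟩ := IsPGroup.iff_card.mp hE'p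
  obtain ⟨L, hL⟩ := Subgroup.exists_right_complement'_of_coprime
    (N := E') (hn ▸ (hp.out.coprime_iff_not_dvd.mpr hidx).pow_left n)
  have hdec : ∀ c : C, ∃ e ∈ E', ∃ l ∈ L, e * l = c := fun c => by
    obtain ⟨⟨e, l⟩, h⟩ := hL.2 c
    exact ⟨e, e.2, l, l.2, h⟩
  haveI : L.Normal := by
    constructor
    intro l hl c
    obtain ⟨e, he, m, hm, rfl⟩ := hdec c
    have h2 : e * m * l * (e * m)⁻¹ = e * (m * l * m⁻¹) * e⁻¹ := by group
    rw [h2, ← hEcen e he, mul_inv_cancel_right]
    exact mul_mem (mul_mem hm hl) (inv_mem hm)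
  have hVL : V.subgroupOf C ≤ L := by
    intro v hv
    obtain ⟨e, he, l, hl, hel⟩ := hdec v
    obtain ⟨m, hm⟩ := hE'p ⟨e, he⟩
    have hem : e ^ p ^ m = 1 := congrArg Subtype.val hm
    have h1 : v ^ p ^ m ∈ L := by
      rw [← hel, (show Commute e l from (hEcen e he l).symm).mul_pow, hem, one_mul]
      exact pow_mem hl _
    have hco : (p ^ m).Coprime (orderOf v) := by
      refine ((hVc.symm).pow_left m).coprime_dvd_right ?_
      rw [← Subgroup.orderOf_coe]
      exact Subgroup.orderOf_dvd_natCard _ hv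
    obtain ⟨w, hw⟩ := exists_pow_eq_self_of_coprime hco
    rw [← hw]
    exact pow_mem h1 w
  have hpiL : ∀ r : ℕ, r.Prime → r ∣ Nat.card L → r ∈ primesNotDvd p := by
    intro r hr hrL
    refine ⟨hr, fun hrp => hidx ?_⟩
    rw [Nat.prime_dvd_prime_iff_eq hr hp.out] at hrp
    rw [← hrp]
    exact (hL.card_right ▸ hrL :)
  intro v hv
  exact ⟨⟨v, hV hv⟩, Cfsg.Agent.Cores.le_piCore (π := primesNotDvd p) hpiL (hVL hv), rfl⟩

end Cfsg.Agent.H42
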