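import Cfsg.Prelude.Def_OddOrderLocal
import Cfsg.Prelude.Def_CaseTheorems
import Cfsg.Agent.Cores.Fitting
import Cfsg.Agent.Cores.Constrained
import Cfsg.Agent.Coprime.Action
import Cfsg.Agent.Coprime.Centralize
import Cfsg.Agent.S1442
import Cfsg.Agent.H24.Nilp
import Cfsg.Agent.H41.Nilpotent
import Cfsg.Agent.Components.Fitting
import Cfsg.Agent.Components.PLocal

/-!
Maximal local subgroups whose Fitting subgroup has order divisible by two primes.
-/

set_option autoImplicit false

namespace Cfsg.Agent.H42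

open Subgroup
open scoped commutatorElement

theorem mem_pCore_of_mem_fitting {X : Type*} [Group X] [Finite X] {p : ℕ} [Fact p.Prime] {x : X}
    (hx : x ∈ fittingSubgroup X) {k : ℕ} (ho : orderOf x = p ^ k) : x ∈ pCore p X := by
  refine Cores.le_pCore_of_le_sup (IsPGroup.of_card (n := k) (by rw [Nat.card_zpowers, ho])) ?_
    (mem_zpowers x)
  rw [zpowers_le]
  rw [Cores.iSup_pCore_eq_fittingSubgroup] at hx
  exact Cores.iSup_pCore_le_sup p hx

theorem normalizer_le_centralizer' {G : Type*} [Group G] (K : Subgroup G) :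
    normalizer (K : Set G) ≤ normalizer (centralizer (K : Set G) : Set G) := by
  have key : ∀ g ∈ normalizer (K : Set G), ∀ x ∈ centralizer (K : Set G),
      g * x * g⁻¹ ∈ centralizer (K : Set G) := by
    intro g hg x hx
    refine mem_centralizer_iff.mpr fun k hk => ?_
    have h1 : g⁻¹ * k * g ∈ K := by
      have := (mem_normalizer_iff.mp (inv_mem hg) k).mp hk
      simpa using this
    have h2 := mem_centralizer_iff.mp hx _ h1
    calc k * (g * x * g⁻¹) = g * (g⁻¹ * k * g * x) * g⁻¹ := by simp [mul_assoc]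
      _ = g * (x * (g⁻¹ * k * g)) * g⁻¹ := by rw [h2]
      _ = _ := by simp [mul_assoc]
  intro g hg
  rw [mem_normalizer_iff]
  refine fun x => ⟨key g hg x, fun h => ?_⟩
  have := key g⁻¹ (inv_mem hg) _ h
  simpa [mul_assoc] using this

/-- A solvable normal subgroup of the centralizer of `F(H)` lies in `F(H)`. -/
theorem solvable_normal_le_fitting {G : Type*} [Group G] [Finite G] (H S : Subgroup G)
    (hS : S ≤ H ⊓ centralizer (fittingOf H : Set G)) (hsol : Group.IsSolvable S)
    (hn : H ⊓ centralizer (fittingOf H : Set G) ≤ normalizer (S : Set G)) : S ≤ fittingOf H := by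
  set C : Subgroup H := centralizer (fittingSubgroup H : Set H) with hC
  have hCX : C.map H.subtype ≤ H ⊓ centralizer (fittingOf H : Set G) := by
    rintro _ ⟨c, hc, rfl⟩
    refine ⟨c.2, mem_centralizer_iff.mpr ?_⟩
    rintro _ ⟨f, hf, rfl⟩
    exact congrArg Subtype.val (mem_centralizer_iff.mp hc f hf)
  -- `S` inside `↥C`
  set ι : C →* G := H.subtype.comp C.subtype with hι
  have hιinj : Function.Injective ι := H.subtype_injective.comp C.subtype_injective
  set S' : Subgroup C := S.comap ι with hS'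
  haveI hS'n : S'.Normal := ⟨fun x hx g => by
    have := hn (hCX ⟨(g : H), g.2, rfl⟩)
    have h1 := (mem_normalizer_iff.mp this (ι x)).mp hx
    show ι (g * x * g⁻¹) ∈ S
    rw [map_mul, map_mul, map_inv]
    exact h1⟩
  haveI : Group.IsSolvable S' := by
    haveI := hsol
    exact Group.isSolvable_of_isSolvable_injective
      (f := (ι.comp S'.subtype).codRestrict S fun x => x.2)
      fun a b h => Subtype.ext (hιinj (congrArg (fun t : S => (t : G)) h))
  have hFC : (fittingSubgroup C).map C.subtype ≤ fittingSubgroup H :=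
    Cores.map_fittingSubgroup_le_of_normal C
  have hFS : (fittingSubgroup S').map S'.subtype ≤ fittingSubgroup C :=
    Cores.map_fittingSubgroup_le_of_normal S'
  have hcen : centralizer (fittingSubgroup S' : Set S') = ⊤ := by
    refine eq_top_iff.mpr fun s _ => mem_centralizer_iff.mpr fun f hf => ?_
    have h1 : ((f : C) : H) ∈ fittingSubgroup H := hFC ⟨f, hFS ⟨f, hf, rfl⟩, rfl⟩
    exact Subtype.ext (Subtype.ext (mem_centralizer_iff.mp (s : C).2 _ h1))
  have htop : fittingSubgroup S' = ⊤ :=
    top_le_iff.mp (hcen.ge.trans Cores.centralizer_fittingSubgroup_le)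
  intro x hx
  obtain ⟨hxH, hxc⟩ := hS hx
  have hxC : (⟨x, hxH⟩ : H) ∈ C := mem_centralizer_iff.mpr fun f hf =>
    Subtype.ext (mem_centralizer_iff.mp hxc (f : G) ⟨f, hf, rfl⟩)
  exact ⟨⟨x, hxH⟩, hFC ⟨⟨⟨x, hxH⟩, hxC⟩,
    hFS ⟨⟨⟨⟨x, hxH⟩, hxC⟩, hx⟩, htop ▸ mem_top _, rfl⟩, rfl⟩, rfl⟩

/-- The argument showing that invariant `π'`-subgroups lie in the `π'`-core. -/
theorem invariant_le_piCore {N : Type*} [Group N] [Finite N] (n : ℕ)
    (hn : 2 ≤ n.primeFactors.card) (R W : Subgroup N) [R.Normal] [W.Normal] (hWR : W ≤ R)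
    [Group.IsSolvable R] (hW : Cores.IsPiNumber (primesNotDvd n) (Nat.card W))
    (hmax : ∀ E : Subgroup N, E.Normal → E ≤ R → Cores.IsPiNumber (primesNotDvd n) (Nat.card E) →
      E ≤ W)
    (Mp : ℕ → Subgroup N) (hMp : ∀ p, p.Prime → IsPGroup p (Mp p))
    (hMc : ∀ p r, p.Prime → r.Prime → p ≠ r → Mp p ≤ centralizer (Mp r : Set N))
    (hkey : ∀ p r, p ∈ n.primeFactors → r ∈ n.primeFactors → p ≠ r →
      ∀ c ∈ centralizer (Mp p : Set N), ∀ m ∈ Mp r, orderOf (c * m * c⁻¹ * m⁻¹) ∣ n ∧
        ((∃ a, orderOf (c * m * c⁻¹ * m⁻¹) = p ^ a) → c * m = m * c))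
    (Y : Subgroup N) (hYR : Y ≤ R) (hY : Cores.IsPiNumber (primesNotDvd n) (Nat.card Y))
    (hMY : ∀ r ∈ n.primeFactors, Mp r ≤ normalizer (Y : Set N))
    (hYfix : ∀ r ∈ n.primeFactors, Y ⊓ centralizer (Mp r : Set N) = ⊥) : Y ≤ W := by
  classical
  set π := QuotientGroup.mk' W with hπ
  have hsurj : Function.Surjective π := QuotientGroup.mk'_surjective W
  set R' := R.map π with hR'
  haveI : R'.Normal := (inferInstance : R.Normal).map _ hsurj
  haveI : Group.IsSolvable R' := Group.isSolvable_of_surjective (π.subgroupMap_surjective R)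
  have hcopW : ∀ p ∈ n.primeFactors, (Nat.card W).Coprime p := fun p hp =>
    Nat.Coprime.symm ((Nat.prime_of_mem_primeFactors hp).coprime_iff_not_dvd.mpr fun h =>
      (hW p (Nat.prime_of_mem_primeFactors hp) h).2 (Nat.dvd_of_mem_primeFactors hp))
  -- `O_p(R/W)` is centralized by the `r`-parts
  have hU : ∀ p ∈ n.primeFactors, ∀ r ∈ n.primeFactors, p ≠ r →
      (Mp r).map π ≤ centralizer (((pCore p R').map R'.subtype : Subgroup (N ⧸ W)) : Set (N ⧸ W)) := by
    intro p hp r hr hpr
    have hp' := Nat.prime_of_mem_primeFactors hp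
    have hr' := Nat.prime_of_mem_primeFactors hr
    haveI := Fact.mk hp'
    haveI := Fact.mk hr'
    set U := (pCore p R').map R'.subtype with hUd
    have hUn : U.Normal := Cores.map_subtype_normal
    have hUp : IsPGroup p U := Cores.pCore_isPGroup.map _
    have hPn : (Mp p).map π ≤ normalizer (U : Set (N ⧸ W)) := by
      rw [normalizer_eq_top]; exact le_top
    have hQn : (Mp r).map π ≤ normalizer (U : Set (N ⧸ W)) := by
      rw [normalizer_eq_top]; exact le_top
    refine Coprime.thompson_AxB ((hMp p hp').map π) ?_ ?_ U hUp hPn hQn ?_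
    · obtain ⟨b, hb⟩ := IsPGroup.iff_card.mp ((hMp r hr').map π)
      rw [hb]; exact Nat.Coprime.pow_left _ ((Nat.coprime_primes hr' hp').mpr hpr.symm)
    · rintro _ ⟨a, ha, rfl⟩
      refine mem_centralizer_iff.mpr ?_
      rintro _ ⟨b, hb, rfl⟩
      rw [← map_mul, ← map_mul, mem_centralizer_iff.mp (hMc p r hp' hr' hpr ha) b hb]
    · rintro u ⟨huU, huc⟩
      have h1 : u ∈ centralizer (((Mp p).map π : Subgroup (N ⧸ W)) : Set (N ⧸ W)) := huc
      rw [← Cores.map_centralizer_of_coprime W (hcopW p hp) (hMp p hp')] at h1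
      obtain ⟨c, hc, rfl⟩ := h1
      refine mem_centralizer_iff.mpr ?_
      rintro _ ⟨m, hm, rfl⟩
      obtain ⟨hdvd, hcm⟩ := hkey p r hp hr hpr c hc m hm
      set z := c * m * c⁻¹ * m⁻¹ with hz
      have hzU : π z ∈ U := by
        have : π z = π c * (π m * (π c)⁻¹ * (π m)⁻¹) := by
          simp only [hz, map_mul, map_inv, mul_assoc]
        rw [this]
        exact mul_mem huU (hUn.conj_mem _ (inv_mem huU) _)
      obtain ⟨a, ha⟩ := hUp ⟨π z, hzU⟩
      have hzW : z ^ p ^ a ∈ W := (QuotientGroup.eq_one_iff _).mp (by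
        show π (z ^ p ^ a) = 1
        rw [map_pow]; exact congrArg Subtype.val ha)
      have hz1 : z ^ p ^ a = 1 := by
        rw [← orderOf_eq_one_iff]
        by_contra hne
        obtain ⟨q, hq, hqd⟩ := Nat.exists_prime_and_dvd hne
        exact (hW q hq (hqd.trans (Subgroup.orderOf_dvd_natCard W hzW))).2
          (hqd.trans ((orderOf_pow_dvd _).trans hdvd))
      obtain ⟨b, -, hb⟩ := (Nat.dvd_prime_pow hp').mp (orderOf_dvd_of_pow_eq_one hz1)
      rw [← map_mul, ← map_mul, hcm ⟨b, hb⟩]
  -- `O_q(R/W) = 1` for the other primes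
  have hbot : ∀ q : ℕ, q.Prime → ¬ q ∣ n → pCore q R' = ⊥ := by
    intro q hq hqn
    haveI := Fact.mk hq
    set D := (pCore q R').map R'.subtype with hD
    have hDn : D.Normal := Cores.map_subtype_normal
    have hDq : IsPGroup q D := Cores.pCore_isPGroup.map _
    have hE : D.comap π ≤ W := by
      refine hmax _ (hDn.comap π) ?_ ?_
      · have := comap_mono (f := π) (map_subtype_le (pCore q R'))
        rwa [hR', comap_map_eq, QuotientGroup.ker_mk', sup_eq_left.mpr hWR] at this
      · have h1 : Nat.card ↥(D.comap π) = Nat.card W * Nat.card D := by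
          have h2 := Subgroup.relIndex_mul_relIndex ⊥ W (D.comap π) bot_le
            (fun w hw => by
              rw [mem_comap, show π w = 1 from (QuotientGroup.eq_one_iff w).mpr hw]
              exact one_mem D)
          rw [relIndex_bot_left, relIndex_bot_left, ← Cores.card_map_mk',
            map_comap_eq_self_of_surjective hsurj] at h2
          exact h2.symm
        rw [h1]
        refine hW.mul ?_
        intro l hl hld
        obtain ⟨b, hb⟩ := IsPGroup.iff_card.mp hDq
        rw [hb] at hld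
        exact ((Nat.prime_dvd_prime_iff_eq hl hq).mp (hl.dvd_of_dvd_pow hld)).symm ▸ ⟨hq, hqn⟩
    have h3 : D = ⊥ := by
      rw [← map_comap_eq_self_of_surjective hsurj D, Subgroup.map_eq_bot_iff, QuotientGroup.ker_mk']
      exact hE
    exact (map_eq_bot_iff_of_injective _ R'.subtype_injective).mp h3
  -- `Y` centralizes `F(R/W)`
  have hYc : ∀ p ∈ n.primeFactors, Y.map π ≤
      centralizer (((pCore p R').map R'.subtype : Subgroup (N ⧸ W)) : Set (N ⧸ W)) := by
    intro p hp
    obtain ⟨r, hr, hrp⟩ := Finset.exists_mem_ne hn p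
    haveI := Fact.mk (Nat.prime_of_mem_primeFactors hr)
    haveI hUn : ((pCore p R').map R'.subtype).Normal := Cores.map_subtype_normal
    haveI : IsPGroup r (Mp r) := hMp r (Nat.prime_of_mem_primeFactors hr)
    have hcop : (Nat.card (Mp r)).Coprime (Nat.card Y) := by
      obtain ⟨b, hb⟩ := IsPGroup.iff_card.mp (hMp r (Nat.prime_of_mem_primeFactors hr))
      rw [hb]
      refine Nat.Coprime.pow_left b ((Nat.prime_of_mem_primeFactors hr).coprime_iff_not_dvd.mpr ?_)
      exact fun h => (hY r (Nat.prime_of_mem_primeFactors hr) h).2 (Nat.dvd_of_mem_primeFactors hr)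
    have hsol : Group.IsSolvable (Mp r) ∨ Group.IsSolvable Y :=
      Or.inr (Coprime.isSolvable_of_le hYR inferInstance)
    have h1 := Coprime.commutator_sup_centralizer (hMY r hr) hcop hsol
    rw [hYfix r hr, sup_bot_eq] at h1
    rw [← h1, map_commutator]
    refine le_trans (commutator_mono le_top (hU p hp r hr hrp.symm)) ?_
    exact commutator_le.mpr fun g _ c hc => by
      rw [commutatorElement_def]
      exact mul_mem ((inferInstance : (centralizer _).Normal).conj_mem c hc g) (inv_mem hc)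
  set Y' := (Y.map π).subgroupOf R' with hY'
  have hYle : Y' ≤ centralizer (fittingSubgroup R' : Set R') := by
    rw [le_centralizer_iff, Cores.iSup_pCore_eq_fittingSubgroup]
    refine iSup_le fun q => ?_
    by_cases hq : (q : ℕ) ∈ n.primeFactors
    · intro f hf
      refine mem_centralizer_iff.mpr fun y hy => Subtype.ext ?_
      exact (mem_centralizer_iff.mp (hYc q hq hy) (f : N ⧸ W) ⟨f, hf, rfl⟩).symm
    · rw [hbot q q.2 fun h => hq (Nat.mem_primeFactors.mpr ⟨q.2, h, fun h0 => by simp [h0] at hn⟩)]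
      exact bot_le
  have hY'F : Y' ≤ fittingSubgroup R' := hYle.trans Cores.centralizer_fittingSubgroup_le
  have hY'1 : Y' = ⊥ := by
    by_contra hne
    obtain ⟨q, hq, hqd⟩ := Nat.exists_prime_and_dvd (mt Subgroup.card_eq_one.mp hne)
    haveI := Fact.mk hq
    obtain ⟨y, hy⟩ := exists_prime_orderOf_dvd_card' q hqd
    have hc : Nat.card Y' ∣ Nat.card Y :=
      (Nat.card_congr (subgroupOfEquivOfLe (map_mono hYR)).toEquiv).dvd.trans (card_map_dvd Y π)
    have hqn : ¬ q ∣ n := (hY q hq (hqd.trans hc)).2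
    have h2 : (y : R') ∈ pCore q R' := mem_pCore_of_mem_fitting (hY'F y.2) (k := 1)
      (by rw [Subgroup.orderOf_coe, hy, pow_one])
    rw [hbot q hq hqn, mem_bot] at h2
    rw [show y = 1 from Subtype.ext h2, orderOf_one] at hy
    exact hq.one_lt.ne hy
  have : Y.map π = ⊥ := by
    rw [← inf_eq_left.mpr (map_mono hYR : Y.map π ≤ R'), ← subgroupOf_map_subtype, ← hY', hY'1,
      Subgroup.map_bot]
  rw [← QuotientGroup.ker_mk' W]
  exact (Subgroup.map_eq_bot_iff _).mp this

variable {G : Type*} [Group G] [Finite G]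

/-- `O_p(H)` inside the ambient group. -/
def coreIn (p : ℕ) (H : Subgroup G) : Subgroup G := (pCore p H).map H.subtype

theorem coreIn_normalized (p : ℕ) (H : Subgroup G) : H ≤ normalizer (coreIn p H : Set G) :=
  Components.le_normalizer_map_subtype _

theorem normalizer_le_map_char {R : Subgroup G} (D : Subgroup R) [hD : D.Characteristic] :
    normalizer (R : Set G) ≤ normalizer ((D.map R.subtype : Subgroup G) : Set G) := by
  intro g hg
  have key : ∀ g ∈ normalizer (R : Set G), ∀ x ∈ D.map R.subtype, g * x * g⁻¹ ∈ D.map R.subtype := by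
    rintro g hg _ ⟨d, hd, rfl⟩
    set e := normalizerMonoidHom R ⟨g, hg⟩ with he
    exact ⟨e d, (characteristic_iff_map_eq.mp hD e).le ⟨d, hd, rfl⟩, rfl⟩
  rw [mem_normalizer_iff]
  refine fun x => ⟨key g hg x, fun h => ?_⟩
  have := key g⁻¹ (inv_mem hg) _ h
  simpa [mul_assoc] using this

theorem fittingOf_isNilpotent (H : Subgroup G) : Group.IsNilpotent (fittingOf H) := by
  haveI := Cores.fittingSubgroup_isNilpotent (G := H)
  exact Group.nilpotent_of_surjective (H.subtype.subgroupMap _) (H.subtype.subgroupMap_surjective _)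

/-- The two-prime uniqueness argument. -/
theorem two_primes (H : Subgroup G) (hH : IsLocalSubgroup H)
    (hHmax : ∀ L : Subgroup G, IsLocalSubgroup L → H ≤ L → L = H)
    (hF2 : 2 ≤ (Nat.card (fittingOf H)).primeFactors.card)
    (M : Subgroup G) (hM : M ≤ fittingOf H)
    (hCM : fittingOf H ⊓ centralizer (M : Set G) ≤ M)
    (R : Subgroup G) (hR : Group.IsSolvable R) (hMR : M ≤ normalizer (R : Set G))
    (hXR : H ⊓ centralizer (fittingOf H : Set G) ≤ normalizer (R : Set G)) :
    piCoreOf (primesNotDvd (Nat.card (fittingOf H))) R ⊓ centralizer (M : Set G) = ⊥ ∧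
    ∀ Y : Subgroup G, Y ≤ R → M ≤ normalizer (Y : Set G) →
      Cores.IsPiNumber (primesNotDvd (Nat.card (fittingOf H))) (Nat.card Y) →
      Y ≤ piCoreOf (primesNotDvd (Nat.card (fittingOf H))) R := by
  classical
  set F := fittingOf H with hF
  set n := Nat.card F with hn
  set τ := primesNotDvd n with hτ
  have hFH : F ≤ H := map_subtype_le _
  have hHF : H ≤ normalizer (F : Set G) := Components.le_normalizer_map_subtype _
  have hFnil : Group.IsNilpotent F := fittingOf_isNilpotent H
  set Mp : ℕ → Subgroup G := fun p => M ⊓ coreIn p H with hMpd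
  have hMpp : ∀ p, p.Prime → IsPGroup p (Mp p) := fun p hp => by
    haveI := Fact.mk hp
    exact (Cores.pCore_isPGroup.map _ : IsPGroup p (coreIn p H)).to_le inf_le_right
  have hMn : ∀ p, M ≤ normalizer (Mp p : Set G) := fun p =>
    (le_inf le_normalizer ((hM.trans hFH).trans (coreIn_normalized p H))).trans
      inf_normalizer_le_normalizer_inf
  have hpow : ∀ p, p.Prime → ∀ x ∈ F, ∀ a, orderOf x = p ^ a → x ∈ coreIn p H := by
    intro p hp x hx a ha
    haveI := Fact.mk hp
    obtain ⟨y, hy, rfl⟩ := hx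
    exact ⟨y, mem_pCore_of_mem_fitting hy (k := a) (by rw [← Subgroup.orderOf_coe]; exact ha), rfl⟩
  -- centralizers of the parts of `M` lie in `H`
  have hCH : ∀ p ∈ n.primeFactors, centralizer (Mp p : Set G) ≤ H := by
    intro p hp
    have hp' := Nat.prime_of_mem_primeFactors hp
    haveI := Fact.mk hp'
    set Z := coreIn p H ⊓ F ⊓ centralizer (F : Set G) with hZ
    have hZne : Z ≠ ⊥ := by
      obtain ⟨x, hx⟩ := exists_prime_orderOf_dvd_card' (G := F) p (Nat.dvd_of_mem_primeFactors hp)
      haveI := hFnil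
      have hP : ((coreIn p H).subgroupOf F).Normal :=
        normal_subgroupOf_of_le_normalizer (hFH.trans (coreIn_normalized p H))
      have hPne : (coreIn p H).subgroupOf F ≠ ⊥ := fun h => by
        have h1 : x ∈ (coreIn p H).subgroupOf F := hpow p hp' x x.2 1 (by
          rw [Subgroup.orderOf_coe, hx, pow_one])
        rw [h, mem_bot] at h1
        rw [h1, orderOf_one] at hx
        exact hp'.one_lt.ne hx
      obtain ⟨c, hc, hc1⟩ := (bot_or_exists_ne_one _).resolve_left (H24.inf_center_ne_bot _ hPne)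
      intro h
      have : (c : G) ∈ Z := ⟨⟨hc.1, c.2⟩, mem_centralizer_iff.mpr fun f hf =>
        congrArg Subtype.val (mem_center_iff.mp hc.2 ⟨f, hf⟩)⟩
      rw [h, mem_bot] at this
      exact hc1 (Subtype.ext this)
    have hZM : Z ≤ Mp p := fun z hz =>
      ⟨hCM ⟨hz.1.2, centralizer_le hM hz.2⟩, hz.1.1⟩
    have hHZ : H ≤ normalizer (Z : Set G) := by
      refine (le_inf (le_inf (coreIn_normalized p H) hHF)
        (hHF.trans ?_)).trans ((inf_le_inf_right _ inf_normalizer_le_normalizer_inf).trans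
          inf_normalizer_le_normalizer_inf)
      exact normalizer_le_centralizer' _
    have hZp : IsPGroup p Z :=
      (Cores.pCore_isPGroup.map _ : IsPGroup p (coreIn p H)).to_le (inf_le_left.trans inf_le_left)
    calc centralizer (Mp p : Set G) ≤ centralizer (Z : Set G) := centralizer_le hZM
      _ ≤ normalizer (Z : Set G) := centralizer_le_normalizer _
      _ = H := hHmax _ ⟨p, Z, hp', hZp, hZne, rfl⟩ hHZ
  obtain ⟨p₀, hp₀⟩ := Finset.card_pos.mp (by omega : 0 < n.primeFactors.card)
  -- no invariant `τ`-subgroup of `R` in `H`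
  have htriv : ∀ Y : Subgroup G, Y ≤ R → Y ≤ H → M ≤ normalizer (Y : Set G) →
      Cores.IsPiNumber τ (Nat.card Y) → Y = ⊥ := by
    intro Y hYR hYH hMY hY
    have hcop : (Nat.card Y).Coprime n := Nat.coprime_of_dvd fun q hq h1 h2 => (hY q hq h1).2 h2
    have hdisj : Y ⊓ F = ⊥ := Coprime.inf_eq_bot hcop
    have hYM : M ≤ F ⊓ centralizer (Y : Set G) := fun m hm => ⟨hM hm, mem_centralizer_iff.mpr
      fun y hy => by
        have h1 : y * m * y⁻¹ * m⁻¹ ∈ Y ⊓ F := by
          refine ⟨?_, F.mul_mem ((mem_normalizer_iff.mp (hHF (hYH hy)) m).mp (hM hm))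
            (F.inv_mem (hM hm))⟩
          have h2 := Y.mul_mem hy ((mem_normalizer_iff.mp (hMY hm) y⁻¹).mp (Y.inv_mem hy))
          simpa [mul_assoc] using h2
        rw [hdisj, mem_bot, mul_inv_eq_one, mul_inv_eq_iff_eq_mul] at h1
        exact h1⟩
    have hYX : Y ≤ H ⊓ centralizer (F : Set G) := le_inf hYH (S1442.result F Y hFnil
      (hYH.trans hHF) hcop (((inf_le_inf_left F (centralizer_le hYM)).trans hCM).trans hYM))
    set S := H ⊓ centralizer (F : Set G) ⊓ R with hS
    have hSF : S ≤ F := solvable_normal_le_fitting H S inf_le_left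
      (Coprime.isSolvable_of_le inf_le_right hR)
      ((le_inf le_normalizer hXR).trans inf_normalizer_le_normalizer_inf)
    rw [← inf_eq_left.mpr ((le_inf hYX hYR).trans hSF), hdisj]
  set W := piCoreOf τ R with hW
  have hWR : W ≤ R := map_subtype_le _
  have hWτ : Cores.IsPiNumber τ (Nat.card W) := by
    rw [hW, piCoreOf, Subgroup.card_map_of_injective R.subtype_injective]
    exact Cores.piCore_isPiNumber τ
  have hNW : normalizer (R : Set G) ≤ normalizer (W : Set G) := normalizer_le_map_char _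
  refine ⟨htriv _ (inf_le_left.trans hWR) (inf_le_right.trans
    ((centralizer_le inf_le_left).trans (hCH p₀ hp₀))) ?_ ?_, ?_⟩
  · refine (le_inf (hMR.trans hNW) (le_normalizer.trans ?_)).trans inf_normalizer_le_normalizer_inf
    exact normalizer_le_centralizer' _
  · exact hWτ.of_dvd (card_dvd_of_le inf_le_left)
  intro Y hYR hMY hY
  set N := normalizer (R : Set G) with hNd
  have hRN : R ≤ N := le_normalizer
  haveI : (R.subgroupOf N).Normal := normal_subgroupOf_of_le_normalizer le_rfl
  haveI : (W.subgroupOf N).Normal := normal_subgroupOf_of_le_normalizer hNW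
  haveI : Group.IsSolvable ↥(R.subgroupOf N) := by
    haveI := hR
    exact Group.isSolvable_of_surjective
      (f := (subgroupOfEquivOfLe hRN).symm.toMonoidHom) (subgroupOfEquivOfLe hRN).symm.surjective
  have hcard : ∀ A : Subgroup G, A ≤ N → Nat.card (A.subgroupOf N) = Nat.card A := fun A hA =>
    Nat.card_congr (subgroupOfEquivOfLe hA).toEquiv
  have hMpN : ∀ p, Mp p ≤ N := fun p => inf_le_left.trans hMR
  have hmem : ∀ (A : Subgroup G) (x : N), A ≤ N → x ∈ centralizer (A.subgroupOf N : Set N) →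
      (x : G) ∈ centralizer (A : Set G) := fun A x hA hx => mem_centralizer_iff.mpr fun a ha =>
    congrArg Subtype.val (mem_centralizer_iff.mp hx ⟨a, hA ha⟩ ha)
  have h := invariant_le_piCore n hF2 (R.subgroupOf N) (W.subgroupOf N)
    (comap_mono hWR) (by rwa [hcard W (hWR.trans hRN)])
    (fun E hE hER hEτ => by
      have h1 : E.map N.subtype ≤ R := by
        have := map_mono (f := N.subtype) hER
        rwa [subgroupOf_map_subtype, inf_eq_left.mpr hRN] at this
      haveI : ((E.map N.subtype).subgroupOf R).Normal := normal_subgroupOf_of_le_normalizer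
        (hRN.trans (Components.le_normalizer_map_subtype E))
      have h2 := Cores.le_piCore (π := τ) (N := (E.map N.subtype).subgroupOf R)
        (by rwa [Nat.card_congr (subgroupOfEquivOfLe h1).toEquiv,
          Subgroup.card_map_of_injective N.subtype_injective])
      intro x hx
      exact ⟨⟨(x : G), h1 ⟨x, hx, rfl⟩⟩, h2 ⟨x, hx, rfl⟩, rfl⟩)
    (fun p => (Mp p).subgroupOf N)
    (fun p hp => (hMpp p hp).comap_subtype)
    (fun p r hp hr hpr a ha => mem_centralizer_iff.mpr fun b hb => Subtype.ext <| by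
      haveI := Fact.mk hp
      haveI := Fact.mk hr
      refine (H41.commute_of_coprime_of_isNilpotent hFnil (hM ha.1) (hM hb.1) ?_).symm
      obtain ⟨i, hi⟩ := IsPGroup.iff_orderOf.mp (hMpp p hp) ⟨(a : G), ha⟩
      obtain ⟨j, hj⟩ := IsPGroup.iff_orderOf.mp (hMpp r hr) ⟨(b : G), hb⟩
      rw [← Subgroup.orderOf_coe] at hi hj
      exact (show orderOf (a : G) = p ^ i from hi).symm ▸ (show orderOf (b : G) = r ^ j from hj).symm ▸
        Nat.Coprime.pow _ _ ((Nat.coprime_primes hp hr).mpr hpr))
    (fun p r hp hr hpr c hc m hm => by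
      have hp' := Nat.prime_of_mem_primeFactors hp
      have hr' := Nat.prime_of_mem_primeFactors hr
      haveI := Fact.mk hr'
      have hcH : (c : G) ∈ H := hCH p hp (hmem _ c (hMpN p) hc)
      have hmF : (m : G) ∈ F := hM hm.1
      have hzF : (c : G) * m * (c : G)⁻¹ * (m : G)⁻¹ ∈ F :=
        F.mul_mem ((mem_normalizer_iff.mp (hHF hcH) _).mp hmF) (F.inv_mem hmF)
      have hzo : orderOf (c * m * c⁻¹ * m⁻¹) = orderOf ((c : G) * m * (c : G)⁻¹ * (m : G)⁻¹) := by
        rw [← Subgroup.orderOf_coe]; rfl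
      refine ⟨by rw [hzo]; exact Subgroup.orderOf_dvd_natCard F hzF, ?_⟩
      rintro ⟨a, ha⟩
      rw [hzo] at ha
      obtain ⟨j, hj⟩ := IsPGroup.iff_orderOf.mp (hMpp r hr') ⟨(m : G), hm⟩
      rw [← Subgroup.orderOf_coe] at hj
      set z := (c : G) * m * (c : G)⁻¹ * (m : G)⁻¹ with hzd
      have hzm : Commute z (m : G) := H41.commute_of_coprime_of_isNilpotent hFnil hzF hmF
        (by rw [ha, hj]; exact Nat.Coprime.pow _ _ ((Nat.coprime_primes hp' hr').mpr hpr))
      have h1 : z * (m : G) = (c : G) * m * (c : G)⁻¹ := by rw [hzd, inv_mul_cancel_right]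
      have h2 : z ^ r ^ j = 1 := by
        have h3 : (z * (m : G)) ^ r ^ j = 1 := by
          rw [h1, conj_pow, ← hj, pow_orderOf_eq_one, mul_one, mul_inv_cancel]
        rwa [hzm.mul_pow, ← hj, pow_orderOf_eq_one, mul_one, hj] at h3
      have h4 : z = 1 := by
        rw [← orderOf_eq_one_iff]
        have h5 := orderOf_dvd_of_pow_eq_one h2
        rw [ha] at h5 ⊢
        exact Nat.eq_one_of_dvd_coprimes
          (Nat.Coprime.pow a j ((Nat.coprime_primes hp' hr').mpr hpr)) dvd_rfl h5
      rw [h4, one_mul] at h1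
      exact Subtype.ext (eq_mul_inv_iff_mul_eq.mp h1).symm)
    (Y.subgroupOf N) (comap_mono hYR) (by rwa [hcard Y (hYR.trans hRN)])
    (fun r _ a ha => by
      rw [mem_normalizer_iff]
      intro y
      exact mem_normalizer_iff.mp (hMY ha.1) (y : G))
    (fun r hr => by
      have h1 : Y ⊓ centralizer (Mp r : Set G) = ⊥ := htriv _ (inf_le_left.trans hYR)
        (inf_le_right.trans (hCH r hr))
        ((le_inf hMY ((hMn r).trans (normalizer_le_centralizer' _))).trans
          inf_normalizer_le_normalizer_inf)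
        (hY.of_dvd (card_dvd_of_le inf_le_left))
      refine (eq_bot_iff_forall _).mpr fun x hx => Subtype.ext ?_
      have h2 : (x : G) ∈ Y ⊓ centralizer (Mp r : Set G) := ⟨hx.1, hmem _ x (hMpN r) hx.2⟩
      rwa [h1, mem_bot] at h2)
  intro y hy
  exact h (x := ⟨y, hRN (hYR hy)⟩) hy

end Cfsg.Agent.H42
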