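import Cfsg.Prelude.Def_LieExceptional
import Cfsg.Agent.H41.Nilpotent
import Cfsg.Agent.H31.Basic
import Cfsg.Agent.Cores.Constrained
import Cfsg.Agent.Components.Fitting
import Cfsg.Agent.PGroups.Basic

/-!
Quotients of CN-groups by solvable normal subgroups are CN-groups.
-/

set_option autoImplicit false

namespace Cfsg.Agent.H42

open Subgroup

/-- A group in which elements of prime power orders for distinct primes commute is nilpotent. -/
theorem isNilpotent_of_prime_power_commute {L : Type*} [Group L] [Finite L]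
    (h : ∀ (x y : L) (q r a b : ℕ), q.Prime → r.Prime → q ≠ r → orderOf x = q ^ a →
      orderOf y = r ^ b → x * y = y * x) : Group.IsNilpotent L := by
  refine ((Group.isNilpotent_of_finite_tfae (G := L)).out 0 3).mpr fun p hp P => ?_
  haveI := hp
  refine normalizer_eq_top_iff.mp ?_
  rw [← Subgroup.index_eq_one]
  by_contra hne
  obtain ⟨q, hq, hqd⟩ := Nat.exists_prime_and_dvd hne
  haveI := Fact.mk hq
  rcases eq_or_ne q p with rfl | hqp
  · exact P.not_dvd_index (hqd.trans (index_dvd_of_le le_normalizer))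
  · obtain ⟨Q⟩ : Nonempty (Sylow q L) := inferInstance
    refine Q.not_dvd_index (hqd.trans (index_dvd_of_le fun y hy => ?_))
    refine centralizer_le_normalizer _ (mem_centralizer_iff.mpr fun x hx => ?_)
    obtain ⟨a, ha⟩ := IsPGroup.iff_orderOf.mp P.isPGroup' ⟨x, hx⟩
    obtain ⟨b, hb⟩ := IsPGroup.iff_orderOf.mp Q.isPGroup' ⟨y, hy⟩
    rw [Subgroup.orderOf_mk] at ha hb
    exact h x y p q a b hp.out hq hqp.symm ha hb

theorem isCNGroup_congr {A B : Type*} [Group A] [Group B] [Finite A] (e : A ≃* B)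
    (h : Cfsg.IsCNGroup A) : Cfsg.IsCNGroup B := by
  intro b hb
  have h1 := h (e.symm b) (fun hh => hb (by simpa using congrArg e hh))
  have h2 := Components.isNilpotent_map e.toMonoidHom _ h1
  refine Components.isNilpotent_of_le h2 fun y hy => ?_
  refine ⟨e.symm y, mem_centralizer_singleton_iff.mpr ?_, e.apply_symm_apply y⟩
  rw [← map_mul, ← map_mul, mem_centralizer_singleton_iff.mp hy]

variable {G : Type*} [Group G] [Finite G]

theorem exists_ne_one_commute {p : ℕ} [Fact p.Prime] {M : Subgroup G} [M.Normal] (hM : IsPGroup p M)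
    (hne : M ≠ ⊥) {g : G} {a : ℕ} (hg : orderOf g = p ^ a) : ∃ m ∈ M, m ≠ 1 ∧ g * m = m * g := by
  have hZ : IsPGroup p ↥(zpowers g) := IsPGroup.of_card (n := a) (by rw [Nat.card_zpowers, hg])
  have hX : IsPGroup p ↥(M ⊔ zpowers g) := hM.to_sup_of_normal_left hZ
  have hne' : M.subgroupOf (M ⊔ zpowers g) ≠ ⊥ := by
    rw [ne_eq, subgroupOf_eq_bot, disjoint_iff, inf_eq_left.mpr le_sup_left]; exact hne
  obtain ⟨c, hc, hc1⟩ := (bot_or_exists_ne_one _).resolve_left
    (PGroups.inf_center_ne_bot hX (M.subgroupOf (M ⊔ zpowers g)) hne')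
  refine ⟨c, hc.1, fun h => hc1 (Subtype.ext h), ?_⟩
  exact congrArg Subtype.val
    (mem_center_iff.mp hc.2 ⟨g, mem_sup_right (mem_zpowers g)⟩)

/-- The quotient of a CN-group by an abelian normal `p`-subgroup is a CN-group. -/
theorem cn_quotient_abelian (hCN : Cfsg.IsCNGroup G) {p : ℕ} [Fact p.Prime] (M : Subgroup G)
    [M.Normal] (hne : M ≠ ⊥) (hcomm : ∀ x ∈ M, ∀ y ∈ M, x * y = y * x) (hp : IsPGroup p M)
    (hexp : ∀ x ∈ M, x ^ p = 1) : Cfsg.IsCNGroup (G ⧸ M) := by
  classical
  set π := QuotientGroup.mk' M with hπ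
  suffices h : ∀ x : G, π x ≠ 1 → (orderOf (π x)).Prime →
      Group.IsNilpotent (centralizer ({π x} : Set (G ⧸ M))) by
    intro g hg
    obtain ⟨r, hr, hrd⟩ := Nat.exists_prime_and_dvd (mt orderOf_eq_one_iff.mp hg)
    have ho : orderOf (g ^ (orderOf g / r)) = r := orderOf_pow_orderOf_div (orderOf_pos g).ne' hrd
    obtain ⟨x, hx⟩ := QuotientGroup.mk'_surjective M (g ^ (orderOf g / r))
    have h1 := h x (by rw [hx]; exact fun e => hr.ne_one (by rw [← ho, e, orderOf_one]))
      (by rw [hx, ho]; exact hr)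
    refine Components.isNilpotent_of_le h1 fun y hy => ?_
    rw [hx, mem_centralizer_singleton_iff]
    exact ((show Commute y g from mem_centralizer_singleton_iff.mp hy).pow_right _).eq
  intro x hx hprime
  set r := orderOf (π x) with hr
  haveI := Fact.mk hprime
  have hxr : x ^ r ∈ M := (QuotientGroup.eq_one_iff _).mp (by
    show π (x ^ r) = 1
    rw [map_pow, hr, pow_orderOf_eq_one])
  rcases ne_or_eq r p with hrp | hrp
  · -- a lift of order `r`
    have hx' : (x ^ p) ^ r = 1 := by
      rw [← pow_mul, mul_comm, pow_mul]; exact hexp _ hxr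
    have hπ' : π (x ^ p) ≠ 1 := by
      rw [map_pow]
      intro h1
      exact hrp ((Nat.prime_dvd_prime_iff_eq hprime Fact.out).mp (orderOf_dvd_of_pow_eq_one h1))
    have hne1 : x ^ p ≠ 1 := fun h => hπ' (by rw [h, map_one])
    have hP : IsPGroup r ↥(zpowers (x ^ p)) := IsPGroup.of_card (n := 1) (by
      rw [Nat.card_zpowers, pow_one, orderOf_eq_prime hx' hne1])
    have hcop : (Nat.card M).Coprime r := by
      obtain ⟨n, hn⟩ := IsPGroup.iff_card.mp hp
      rw [hn]
      exact Nat.Coprime.pow_left _ ((Nat.coprime_primes Fact.out hprime).mpr hrp.symm)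
    have hmap := Cores.map_centralizer_of_coprime M hcop hP
    refine Components.isNilpotent_of_le (Components.isNilpotent_map π _ (hCN (x ^ p) hne1)) ?_
    intro y hy
    have h2 : y ∈ centralizer (((zpowers (x ^ p)).map π : Subgroup (G ⧸ M)) : Set (G ⧸ M)) := by
      rw [MonoidHom.map_zpowers, map_pow, zpowers_eq_closure, centralizer_closure,
        mem_centralizer_singleton_iff]
      exact ((show Commute y (π x) from mem_centralizer_singleton_iff.mp hy).pow_right p).eq
    rw [← hmap] at h2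
    obtain ⟨w, hw, rfl⟩ := h2
    exact ⟨w, mem_centralizer_singleton_iff.mpr
      (mem_centralizer_iff.mp hw _ (mem_zpowers _)).symm, rfl⟩
  · -- every `p'`-element of the preimage centralizes `M`
    have hcm : ∀ m ∈ M, m ≠ 1 → ∀ u v : G, u * m = m * u → v * m = m * v →
        (orderOf u).Coprime (orderOf v) → u * v = v * u := fun m _ hm1 u v hu hv hc =>
      H41.commute_of_coprime_of_isNilpotent (hCN m hm1) (mem_centralizer_singleton_iff.mpr hu)
        (mem_centralizer_singleton_iff.mpr hv) hc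
    have key : ∀ (y : G) (q b : ℕ), q.Prime → q ≠ p → orderOf y = q ^ b → π y * π x = π x * π y →
        ∀ m ∈ M, y * m = m * y := by
      intro y q b hq hqp hy hyx m hm
      haveI := Fact.mk hq
      have hP : IsPGroup q ↥(zpowers y) := IsPGroup.of_card (n := b) (by rw [Nat.card_zpowers, hy])
      have hcop : (Nat.card M).Coprime q := by
        obtain ⟨n, hn⟩ := IsPGroup.iff_card.mp hp
        rw [hn]
        exact Nat.Coprime.pow_left _ ((Nat.coprime_primes Fact.out hq).mpr hqp.symm)
      have hπx : π x ∈ centralizer (((zpowers y).map π : Subgroup (G ⧸ M)) : Set (G ⧸ M)) := by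
        rw [MonoidHom.map_zpowers, zpowers_eq_closure, centralizer_closure,
          mem_centralizer_singleton_iff]
        exact hyx.symm
      rw [← Cores.map_centralizer_of_coprime M hcop hP] at hπx
      obtain ⟨w, hw, hwx⟩ := hπx
      have hyw : y * w = w * y := mem_centralizer_iff.mp hw y (mem_zpowers y)
      have hw1 : w ≠ 1 := fun h => hx (by rw [← hwx, h, map_one])
      have hwp : w ^ (p * p) = 1 := by
        have : w ^ p ∈ M := (QuotientGroup.eq_one_iff _).mp (by
          show π (w ^ p) = 1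
          rw [map_pow, hwx, ← hrp, hr, pow_orderOf_eq_one])
        rw [pow_mul]; exact hexp _ this
      obtain ⟨a, -, ha⟩ := (Nat.dvd_prime_pow (Fact.out : p.Prime)).mp
        (show orderOf w ∣ p ^ 2 by rw [sq]; exact orderOf_dvd_of_pow_eq_one hwp)
      obtain ⟨m₀, hm₀, hm₀1, hwm⟩ := exists_ne_one_commute hp hne ha
      have hcop' : ∀ u ∈ M, (orderOf y).Coprime (orderOf u) := fun u hu => by
        rw [hy]
        exact Nat.Coprime.coprime_dvd_right (orderOf_dvd_of_pow_eq_one (hexp u hu))
          (Nat.Coprime.pow_left b ((Nat.coprime_primes hq Fact.out).mpr hqp))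
      have hym₀ : y * m₀ = m₀ * y :=
        H41.commute_of_coprime_of_isNilpotent (hCN w hw1) (mem_centralizer_singleton_iff.mpr hyw)
          (mem_centralizer_singleton_iff.mpr hwm.symm) (hcop' m₀ hm₀)
      exact hcm m₀ hm₀ hm₀1 y m hym₀ (hcomm m hm m₀ hm₀) (hcop' m hm)
    set L := (centralizer ({π x} : Set (G ⧸ M))).comap π with hL
    have hnil : Group.IsNilpotent L := by
      refine isNilpotent_of_prime_power_commute fun u v q s a b hq hs hqs hu hv => Subtype.ext ?_
      rw [← Subgroup.orderOf_coe] at hu hv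
      have hux : π u * π x = π x * π u := mem_centralizer_singleton_iff.mp u.2
      have hvx : π v * π x = π x * π v := mem_centralizer_singleton_iff.mp v.2
      have huv : (orderOf (u : G)).Coprime (orderOf (v : G)) := by
        rw [hu, hv]; exact Nat.Coprime.pow _ _ ((Nat.coprime_primes hq hs).mpr hqs)
      obtain ⟨m, hm, hm1, hum, hvm⟩ : ∃ m ∈ M, m ≠ 1 ∧ (u : G) * m = m * u ∧ (v : G) * m = m * v := by
        rcases ne_or_eq q p with hqp | rfl
        · rcases ne_or_eq s p with hsp | rfl
          · obtain ⟨m, hm, hm1⟩ := (bot_or_exists_ne_one M).resolve_left hne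
            exact ⟨m, hm, hm1, key _ q a hq hqp hu hux m hm, key _ s b hs hsp hv hvx m hm⟩
          · obtain ⟨m, hm, hm1, hvm⟩ := exists_ne_one_commute hp hne hv
            exact ⟨m, hm, hm1, key _ q a hq hqp hu hux m hm, hvm⟩
        · obtain ⟨m, hm, hm1, hum⟩ := exists_ne_one_commute hp hne hu
          exact ⟨m, hm, hm1, hum, key _ s b hs hqs.symm hv hvx m hm⟩
      exact hcm m hm hm1 u v hum hvm huv
    have h2 := Components.isNilpotent_map π L hnil
    rwa [hL, map_comap_eq_self_of_surjective (QuotientGroup.mk'_surjective M)] at h2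

omit [Finite G] in
theorem minNormal_elementary_of_solvable [Finite G] {H N : Subgroup G} (hH : Group.IsSolvable H)
    (hNH : N ≤ H) (hN : N.Normal) (hNne : N ≠ ⊥)
    (hmin : ∀ L : Subgroup G, L.Normal → L ≤ N → L = ⊥ ∨ L = N) :
    (∀ x ∈ N, ∀ y ∈ N, x * y = y * x) ∧
      ∃ p : ℕ, p.Prime ∧ (∀ x ∈ N, x ^ p = 1) ∧ IsPGroup p N := by
  haveI : Group.IsSolvable N := by
    haveI := hH
    exact Group.isSolvable_of_isSolvable_injective (inclusion_injective hNH)
  have hcomm : ∀ x ∈ N, ∀ y ∈ N, x * y = y * x := by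
    rcases hmin ⁅N, N⁆ inferInstance (commutator_le_self N) with h | h
    · intro x hx y hy
      exact commutatorElement_eq_one_iff_mul_comm.mp
        (by simpa [h] using commutator_mem_commutator hx hy)
    · haveI : Nontrivial N := (Subgroup.nontrivial_iff_ne_bot N).mpr hNne
      exfalso
      have hlt : commutator N < (⊤ : Subgroup N) :=
        Group.IsSolvable.commutator_lt_top_of_nontrivial N
      apply hlt.ne
      apply map_injective N.subtype_injective
      rw [map_subtype_commutator, h, ← MonoidHom.range_eq_map, range_subtype]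
  obtain ⟨p, hp, hpd⟩ := Nat.exists_prime_and_dvd
    (mt (Subgroup.card_eq_one (H := N)).mp hNne)
  haveI := Fact.mk hp
  let L : Subgroup G :=
    { carrier := {x | x ∈ N ∧ x ^ p = 1}
      one_mem' := ⟨one_mem N, one_pow p⟩
      mul_mem' := fun {a b} ha hb => ⟨mul_mem ha.1 hb.1, by
        rw [Commute.mul_pow (hcomm a ha.1 b hb.1), ha.2, hb.2, one_mul]⟩
      inv_mem' := fun {a} ha => ⟨inv_mem ha.1, by rw [inv_pow, ha.2, inv_one]⟩ }
  have hLn : L.Normal := ⟨fun x hx g => ⟨hN.conj_mem x hx.1 g, by rw [conj_pow, hx.2]; group⟩⟩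
  have hexp : ∀ x ∈ N, x ^ p = 1 := by
    rcases hmin L hLn (fun x hx => hx.1) with h | h
    · exfalso
      obtain ⟨x, hx⟩ := exists_prime_orderOf_dvd_card' p hpd
      have hxL : (x : G) ∈ L := ⟨x.2, by
        rw [← SubmonoidClass.coe_pow, ← hx, pow_orderOf_eq_one]; rfl⟩
      rw [h, mem_bot] at hxL
      have hx1 : x = 1 := Subtype.ext hxL
      rw [hx1, orderOf_one] at hx
      exact hp.ne_one hx.symm
    · intro x hx
      exact (show x ∈ L by rw [h]; exact hx).2
  refine ⟨hcomm, p, hp, hexp, fun x => ⟨1, ?_⟩⟩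
  apply Subtype.ext
  simpa using hexp x x.2

theorem cn_quotient_solvable (n : ℕ) : ∀ (G : Type*) [Group G] [Finite G] (_ : Cfsg.IsCNGroup G)
    (H : Subgroup G) [H.Normal], Group.IsSolvable H → Nat.card H ≤ n → Cfsg.IsCNGroup (G ⧸ H) := by
  induction n with
  | zero => intro G _ _ _ H _ _ h; exact absurd h (not_le.mpr Nat.card_pos)
  | succ n ih =>
    intro G _ _ hCN H hHn hH hcard
    rcases eq_or_ne H ⊥ with rfl | hne
    · exact isCNGroup_congr QuotientGroup.quotientBot.symm hCN
    -- an abelian normal `p`-subgroup inside `H`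
    obtain ⟨M, hMH, hMn, hMne, hcomm, p, hp, hexp, hMp⟩ : ∃ M ≤ H, M.Normal ∧ M ≠ ⊥ ∧
        (∀ x ∈ M, ∀ y ∈ M, x * y = y * x) ∧
        ∃ p : ℕ, p.Prime ∧ (∀ x ∈ M, x ^ p = 1) ∧ IsPGroup p M := by
      obtain ⟨M, hMH, hMn, hMne, hmin⟩ := H31.exists_minNormal hHn hne
      exact ⟨M, hMH, hMn, hMne, minNormal_elementary_of_solvable hH hMH hMn hMne hmin⟩
    haveI := hMn
    haveI := Fact.mk hp
    have hCN' := cn_quotient_abelian hCN M hMne hcomm hMp hexp
    haveI : (H.map (QuotientGroup.mk' M)).Normal := hHn.map _ (QuotientGroup.mk'_surjective M)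
    have hcard' : Nat.card ↥(H.map (QuotientGroup.mk' M)) ≤ n := by
      have h1 : Nat.card ↥(H.map (QuotientGroup.mk' M)) * Nat.card M = Nat.card H := by
        rw [Cores.card_map_mk', mul_comm, ← Subgroup.relIndex_bot_left M,
          Subgroup.relIndex_mul_relIndex ⊥ M H bot_le hMH, Subgroup.relIndex_bot_left]
      have h2 : 1 < Nat.card M := one_lt_card_iff_ne_bot _ |>.mpr hMne
      have h3 : 0 < Nat.card ↥(H.map (QuotientGroup.mk' M)) := Nat.card_pos
      nlinarith
    haveI : Group.IsSolvable H := hH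
    have hsol : Group.IsSolvable ↥(H.map (QuotientGroup.mk' M)) :=
      Group.isSolvable_of_surjective ((QuotientGroup.mk' M).subgroupMap_surjective H)
    exact isCNGroup_congr (QuotientGroup.quotientQuotientEquivQuotient M H hMH)
      (ih (G ⧸ M) hCN' (H.map (QuotientGroup.mk' M)) hsol hcard')

end Cfsg.Agent.H42
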