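import Cfsg.Agent.Cores.PSolvable
import Cfsg.Agent.Coprime.SchurZassenhaus

/-!
`p`-solvable groups in which every maximal subgroup is `p`-nilpotent or has prime index
have a `p'`, `p`, `p'`, `p` normal series.
-/

namespace Cfsg.Agent.H42.MaxPNilp

set_option linter.style.haveILetI false

open Subgroup

universe u

/-- every maximal subgroup has a normal `p`-complement or prime index -/
def MaxHyp (p : ℕ) (G : Type*) [Group G] : Prop :=
  ∀ M : Subgroup G, IsCoatom M →
    (∃ K : Subgroup ↥M, K.Normal ∧ ¬ p ∣ Nat.card K ∧ ∃ k : ℕ, K.index = p ^ k) ∨ (M.index).Prime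

/-- `p', p, p', p` series -/
def Ser (p : ℕ) (G : Type*) [Group G] : Prop :=
  ∃ A B C : Subgroup G, A.Normal ∧ B.Normal ∧ C.Normal ∧ A ≤ B ∧ B ≤ C ∧ ¬ p ∣ Nat.card A ∧
    (∃ k : ℕ, A.relIndex B = p ^ k) ∧ ¬ p ∣ B.relIndex C ∧ ∃ k : ℕ, C.index = p ^ k

variable {G : Type u} [Group G] [Finite G] {p : ℕ}

theorem not_dvd_of_dvd {a b : ℕ} (h : a ∣ b) (hb : ¬ p ∣ b) : ¬ p ∣ a := fun ha => hb (ha.trans h)

theorem pow_of_dvd_pow [hp : Fact p.Prime] {a k : ℕ} (h : a ∣ p ^ k) : ∃ j, a = p ^ j := by
  obtain ⟨j, -, rfl⟩ := (Nat.dvd_prime_pow hp.out).mp h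
  exact ⟨j, rfl⟩

omit [Finite G] in
theorem maxHyp_quotient [Fact p.Prime] (h : MaxHyp p G) (N : Subgroup G) [N.Normal] :
    MaxHyp p (G ⧸ N) := by
  intro M hM
  set f := QuotientGroup.mk' N
  have hf : Function.Surjective f := QuotientGroup.mk'_surjective N
  have hcM : IsCoatom (M.comap f) := by
    refine ⟨fun ht => hM.1 ?_, fun X hX => ?_⟩
    · rw [← map_comap_eq_self_of_surjective hf M, ht, map_top_of_surjective _ hf]
    · have hker : f.ker ≤ X := ((M.ker_le_comap f).trans hX.le)
      have hXeq : (X.map f).comap f = X := comap_map_eq_self hker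
      have hlt : M < X.map f := by
        refine lt_of_le_of_ne ?_ fun he => ?_
        · rw [← map_comap_eq_self_of_surjective hf M]; exact map_mono hX.le
        · exact hX.ne (by rw [← hXeq, he])
      rw [← hXeq, hM.2 _ hlt, comap_top]
  rcases h _ hcM with ⟨K, hKn, hKc, k, hk⟩ | hp
  · left
    set g := f.subgroupComap M
    have hg : Function.Surjective g := by
      intro ⟨y, hy⟩
      obtain ⟨x, rfl⟩ := hf y
      exact ⟨⟨x, hy⟩, rfl⟩
    refine ⟨K.map g, hKn.map _ hg, not_dvd_of_dvd (card_map_dvd K g) hKc, ?_⟩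
    exact pow_of_dvd_pow (hk ▸ index_map_dvd (H := K) hg)
  · right
    rwa [index_comap_of_surjective _ hf] at hp

omit [Finite G] in
theorem relIndex_comap_comap (N : Subgroup G) [N.Normal] (A B : Subgroup (G ⧸ N)) :
    (A.comap (QuotientGroup.mk' N)).relIndex (B.comap (QuotientGroup.mk' N)) = A.relIndex B := by
  rw [relIndex_comap, map_comap_eq_self_of_surjective (QuotientGroup.mk'_surjective N)]

omit [Finite G] in
/-- the series of a quotient, pulled back -/
theorem pullback {N : Subgroup G} [N.Normal] (h : Ser p (G ⧸ N)) :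
    ∃ A B C : Subgroup G, A.Normal ∧ B.Normal ∧ C.Normal ∧ N ≤ A ∧ A ≤ B ∧ B ≤ C ∧
      ¬ p ∣ N.relIndex A ∧
      (∃ k : ℕ, A.relIndex B = p ^ k) ∧ ¬ p ∣ B.relIndex C ∧ ∃ k : ℕ, C.index = p ^ k := by
  obtain ⟨A, B, C, hA, hB, hC, hAB, hBC, hcA, hr, hr', hi⟩ := h
  set f := QuotientGroup.mk' N
  have hf : Function.Surjective f := QuotientGroup.mk'_surjective N
  refine ⟨A.comap f, B.comap f, C.comap f, hA.comap _, hB.comap _, hC.comap _, ?_,
    comap_mono hAB, comap_mono hBC, ?_, ?_, ?_, ?_⟩
  · intro x hx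
    rw [mem_comap, show f x = 1 from (QuotientGroup.eq_one_iff x).mpr hx]
    exact one_mem _
  · rwa [← Cores.card_map_mk', map_comap_eq_self_of_surjective hf]
  · rwa [relIndex_comap_comap]
  · rwa [relIndex_comap_comap]
  · rwa [index_comap_of_surjective _ hf]

omit [Finite G] in
theorem ser_of_pPrime [hp : Fact p.Prime] {N : Subgroup G} [N.Normal] (hN : ¬ p ∣ Nat.card N)
    (h : Ser p (G ⧸ N)) : Ser p G := by
  obtain ⟨A, B, C, hA, hB, hC, hNA, hAB, hBC, hcA, hr, hr', hi⟩ := pullback h
  refine ⟨A, B, C, hA, hB, hC, hAB, hBC, ?_, hr, hr', hi⟩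
  have : Nat.card N * N.relIndex A = Nat.card A := by
    rw [← relIndex_bot_left, ← relIndex_bot_left, relIndex_mul_relIndex _ _ _ bot_le hNA]
  rw [← this, hp.out.dvd_mul]
  tauto

omit [Finite G] in
theorem relIndex_inf_dvd (A A' B B' : Subgroup G) [A.Normal] [A'.Normal] :
    (A ⊓ A').relIndex (B ⊓ B') ∣ A.relIndex B * A'.relIndex B' := by
  rw [← relIndex_inf_mul_relIndex]
  exact mul_dvd_mul
    (Cores.relIndex_dvd_relIndex_of_le_right A (inf_le_right.trans inf_le_left))
    (Cores.relIndex_dvd_relIndex_of_le_right A' inf_le_right)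

omit [Finite G] in
theorem ser_of_inf [hp : Fact p.Prime] {N L : Subgroup G} [N.Normal] [L.Normal]
    (hNL : N ⊓ L = ⊥) (h1 : Ser p (G ⧸ N)) (h2 : Ser p (G ⧸ L)) :
    Ser p G := by
  obtain ⟨A, B, C, hA, hB, hC, hNA, hAB, hBC, hcA, ⟨k, hr⟩, hr', ⟨i, hi⟩⟩ := pullback h1
  obtain ⟨A', B', C', hA', hB', hC', hLA, hAB', hBC', hcA', ⟨k', hs⟩, hs', ⟨i', hi'⟩⟩ := pullback h2
  refine ⟨A ⊓ A', B ⊓ B', C ⊓ C', inferInstance, inferInstance, inferInstance,
    inf_le_inf hAB hAB', inf_le_inf hBC hBC', ?_, ?_, ?_, ?_⟩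
  · intro hd
    have e : Nat.card ↥(N ⊓ (A ⊓ A')) * N.relIndex (A ⊓ A') = Nat.card ↥(A ⊓ A') := by
      rw [← inf_relIndex_right N (A ⊓ A'), ← relIndex_bot_left, ← relIndex_bot_left,
        relIndex_mul_relIndex _ _ _ bot_le inf_le_right]
    rw [← e, hp.out.dvd_mul] at hd
    rcases hd with hd | hd
    · -- the part inside `N` embeds in `A'/L`
      set X := N ⊓ (A ⊓ A')
      have hXL : L ⊓ X = ⊥ := le_bot_iff.mp
        ((le_inf (inf_le_right.trans inf_le_left) inf_le_left).trans hNL.le)
      have : Nat.card X ∣ L.relIndex A' := by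
        rw [← relIndex_bot_left, ← hXL, inf_relIndex_right]
        exact Cores.relIndex_dvd_relIndex_of_le_right L (inf_le_right.trans inf_le_right)
      exact hcA' (hd.trans this)
    · exact hcA (hd.trans (Cores.relIndex_dvd_relIndex_of_le_right N inf_le_left))
  · exact pow_of_dvd_pow (k := k + k') (pow_add p k k' ▸ hr ▸ hs ▸ relIndex_inf_dvd A A' B B')
  · refine not_dvd_of_dvd (relIndex_inf_dvd B B' C C') ?_
    rw [hp.out.dvd_mul]; tauto
  · refine pow_of_dvd_pow (k := i + i') ?_
    have := relIndex_inf_dvd C C' ⊤ ⊤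
    rw [inf_idem, relIndex_top_right, relIndex_top_right, relIndex_top_right, hi, hi'] at this
    rwa [pow_add]

theorem exists_minimal_normal [Nontrivial G] : ∃ N : Subgroup G, N.Normal ∧ N ≠ ⊥ ∧
    ∀ K : Subgroup G, K.Normal → K ≤ N → K = ⊥ ∨ K = N := by
  obtain ⟨N, hN⟩ := (Set.toFinite {K : Subgroup G | K.Normal ∧ K ≠ ⊥}).exists_minimal
    ⟨⊤, inferInstance, top_ne_bot⟩
  refine ⟨N, hN.prop.1, hN.prop.2, fun K hK hKN => ?_⟩
  by_cases h : K = ⊥
  · exact Or.inl h
  · exact Or.inr (le_antisymm hKN (hN.2 ⟨hK, h⟩ hKN))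

theorem isMulCommutative_minimal [Fact p.Prime] {N : Subgroup G} [N.Normal] (hN : N ≠ ⊥)
    (hp : IsPGroup p N) (hmin : ∀ K : Subgroup G, K.Normal → K ≤ N → K = ⊥ ∨ K = N) :
    ∀ x ∈ N, ∀ y ∈ N, x * y = y * x := by
  haveI : Nontrivial N := (Subgroup.nontrivial_iff_ne_bot N).mpr hN
  haveI := hp.center_nontrivial
  have hne : (center N).map N.subtype ≠ ⊥ := by
    rw [Ne, map_eq_bot_iff_of_injective _ N.subtype_injective]
    exact (Subgroup.nontrivial_iff_ne_bot _).mp inferInstance
  intro x hx y hy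
  have hy' : y ∈ (center N).map N.subtype := by
    rwa [(hmin _ inferInstance (map_subtype_le _)).resolve_left hne]
  obtain ⟨y', hy', rfl⟩ := hy'
  exact congrArg Subtype.val (mem_center_iff.mp hy' ⟨x, hx⟩)

theorem isSolvable_of_pGroup [Fact p.Prime] {N : Subgroup G} (hN : IsPGroup p N) :
    Group.IsSolvable N := by
  haveI := hN.isNilpotent
  infer_instance

/-- the case of a normal `p`-subgroup inside the Frattini subgroup -/
theorem ser_of_le_frattini [hp : Fact p.Prime] {N : Subgroup G} [N.Normal] (hN : IsPGroup p N)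
    (hF : N ≤ frattini G) (hcore : ∀ K : Subgroup G, K.Normal → ¬ p ∣ Nat.card K → K = ⊥)
    (h : Ser p (G ⧸ N)) : Ser p G := by
  obtain ⟨A, B, C, hA, hB, hC, hNA, hAB, hBC, hcA, ⟨k, hr⟩, hr', hi⟩ := pullback h
  obtain ⟨m, hm⟩ := IsPGroup.iff_card.mp hN
  have hcop : (Nat.card (N.subgroupOf A)).Coprime (N.subgroupOf A).index := by
    rw [Nat.card_congr (subgroupOfEquivOfLe hNA).toEquiv, hm]
    exact ((hp.out.coprime_iff_not_dvd).mpr hcA).pow_left m
  obtain ⟨K₀, hK₀⟩ := exists_right_complement'_of_coprime hcop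
  set K := K₀.map A.subtype with hKdef
  have hKA : K ≤ A := map_subtype_le _
  have hKc : Nat.card K = N.relIndex A := by
    rw [hKdef, card_map_of_injective A.subtype_injective]
    exact hK₀.symm.index_eq_card.symm
  have hsup : N ⊔ K = A := by
    have e := congrArg (Subgroup.map A.subtype) hK₀.sup_eq_top
    rwa [Subgroup.map_sup, map_subgroupOf_eq_of_le hNA, ← MonoidHom.range_eq_map,
      range_subtype] at e
  have hKcop : (Nat.card K).Coprime (Nat.card N) := by
    rw [hKc, hm]
    exact (((hp.out.coprime_iff_not_dvd).mpr hcA).pow_left m).symm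
  have hnorm : normalizer (K : Set G) = ⊤ := by
    refine frattini_nongenerating (le_antisymm le_top fun g _ => ?_)
    set K' := K.map (MulAut.conj g).toMonoidHom with hK'
    have hle : K' ≤ N ⊔ K := by
      rw [hsup]
      intro x hx
      obtain ⟨y, hy, rfl⟩ := hx
      exact hA.conj_mem y (hKA hy) g
    have hK'c : Nat.card K' = Nat.card K :=
      card_map_of_injective (MulAut.conj g).injective
    obtain ⟨n, hn, hnK⟩ := Coprime.exists_conj_of_le_sup
      (le_normalizer_of_normal (H := N) (K := K)) hle hK'c hKcop (Or.inr (isSolvable_of_pGroup hN))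
    have hgn : n⁻¹ * g ∈ normalizer (K : Set G) := by
      rw [Subgroup.mem_normalizer_iff]
      intro x
      have key : ∀ y, y ∈ K ↔ g * y * g⁻¹ ∈ K.map (MulAut.conj n).toMonoidHom := fun y => by
        rw [← hnK, hK']
        exact (mem_map_iff_mem (f := (MulAut.conj g).toMonoidHom) (MulAut.conj g).injective).symm
      have key' : ∀ z, z ∈ K ↔ n * z * n⁻¹ ∈ K.map (MulAut.conj n).toMonoidHom := fun z =>
        (mem_map_iff_mem (f := (MulAut.conj n).toMonoidHom) (MulAut.conj n).injective).symm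
      rw [key x, key' (n⁻¹ * g * x * (n⁻¹ * g)⁻¹)]
      simp [mul_assoc]
    have := mul_mem (mem_sup_right (S := normalizer (K : Set G)) (hF hn)) (mem_sup_left hgn)
    simpa using this
  haveI hKn : K.Normal := normalizer_eq_top_iff.mp hnorm
  have hKbot : K = ⊥ := hcore K hKn (by rwa [hKc])
  have hAN : A = N := by rw [← hsup, hKbot, sup_bot_eq]
  refine ⟨⊥, B, C, inferInstance, hB, hC, bot_le, hBC, by simp [hp.out.not_dvd_one], ?_, hr', hi⟩
  exact ⟨m + k, by
    rw [pow_add, ← hm, ← hr, hAN, ← relIndex_bot_left,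
      relIndex_mul_relIndex _ _ _ bot_le (hAN ▸ hAB)]⟩

omit [Finite G] in
theorem card_eq_of_inf_bot {N X : Subgroup G} [N.Normal] (h : N ⊓ X = ⊥) :
    N.relIndex (N ⊔ X) = Nat.card X := by
  rw [sup_comm, relIndex_sup_right, ← inf_relIndex_right, h, relIndex_bot_left]

theorem main [hp : Fact p.Prime] : ∀ (n : ℕ) (G : Type u) [Group G] [Finite G],
    Nat.card G = n → IsPSolvable p G → MaxHyp p G → Ser p G := by
  intro n
  induction n using Nat.strong_induction_on with
  | _ n ih => ?_
  intro G _ _ hn hsolv hmax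
  rcases subsingleton_or_nontrivial G with hG | hG
  · exact ⟨⊥, ⊥, ⊥, inferInstance, inferInstance, inferInstance, le_rfl, le_rfl,
      by simp [hp.out.not_dvd_one], ⟨0, by simp⟩, by simp [hp.out.not_dvd_one],
      ⟨0, by simp [Nat.card_unique]⟩⟩
  have IH : ∀ (N : Subgroup G) [N.Normal], N ≠ ⊥ → Ser p (G ⧸ N) := by
    intro N _ hN
    refine ih (Nat.card (G ⧸ N)) ?_ (G ⧸ N) rfl (Cores.isPSolvable_quotient hsolv N)
      (maxHyp_quotient hmax N)
    rw [← hn, ← Subgroup.index_eq_card, ← N.card_mul_index]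
    exact lt_mul_of_one_lt_left (Nat.pos_of_ne_zero N.index_ne_zero_of_finite)
      (N.one_lt_card_iff_ne_bot.mpr hN)
  by_cases hcore : ∀ K : Subgroup G, K.Normal → ¬ p ∣ Nat.card K → K = ⊥
  swap
  · push Not at hcore
    obtain ⟨K, hK, hKc, hKne⟩ := hcore
    exact ser_of_pPrime hKc (IH K hKne)
  obtain ⟨N, hNn, hN, hmin⟩ := exists_minimal_normal (G := G)
  have hNp : IsPGroup p N := by
    rcases Cores.isPGroup_or_coprime_of_minimal_normal hsolv N hN hmin with h | h
    · exact h
    · exact absurd (hcore N hNn ((hp.out.coprime_iff_not_dvd).mp h.symm)) hN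
  by_cases hF : N ≤ frattini G
  · exact ser_of_le_frattini hNp hF hcore (IH N hN)
  obtain ⟨M, hM, hNM⟩ : ∃ M : Subgroup G, IsCoatom M ∧ ¬ N ≤ M := by
    by_contra! hall
    exact hF (le_iInf₂ fun M hM => hall M hM)
  have hcomm := isMulCommutative_minimal hN hNp hmin
  have hsup : N ⊔ M = ⊤ :=
    hM.2 _ (lt_of_le_of_ne le_sup_right fun e => hNM (e.symm ▸ le_sup_left))
  have hinf : N ⊓ M = ⊥ := by
    have hnorm : (N ⊓ M).Normal := by
      rw [← normalizer_eq_top_iff, eq_top_iff, ← hsup, sup_le_iff]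
      constructor
      · intro x hx
        rw [Subgroup.mem_normalizer_iff]
        intro y
        refine ⟨fun hy => ?_, fun hy => ?_⟩
        · rwa [hcomm x hx y hy.1, mul_inv_cancel_right]
        · have e := hcomm x hx _ hy.1
          have : x * y * x⁻¹ = y := by
            have := congrArg (fun z => x⁻¹ * z) e
            simp only [inv_mul_cancel_left, inv_mul_cancel_right] at this
            simpa [mul_assoc] using this
          rwa [this] at hy
      · intro x hx
        rw [Subgroup.mem_normalizer_iff]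
        intro y
        simp only [mem_inf]
        refine and_congr ⟨fun h => hNn.conj_mem y h x, fun h => ?_⟩
          ⟨fun h => mul_mem (mul_mem hx h) (inv_mem hx), fun h => ?_⟩
        · have := hNn.conj_mem _ h x⁻¹
          simpa [mul_assoc] using this
        · have := mul_mem (mul_mem (inv_mem hx) h) hx
          simpa [mul_assoc] using this
    exact (hmin _ hnorm inf_le_left).resolve_right fun e => hNM (e ▸ inf_le_right)
  obtain ⟨m, hm⟩ := IsPGroup.iff_card.mp hNp
  have hidx : M.index = Nat.card N := by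
    rw [← relIndex_top_right, ← hsup, ← relIndex_mul_relIndex M M _ le_rfl le_sup_right,
      relIndex_self, one_mul]
    have h1 := card_eq_of_inf_bot hinf
    have h2 : Nat.card N * N.relIndex (N ⊔ M) = Nat.card M * M.relIndex (N ⊔ M) := by
      rw [← relIndex_bot_left, ← relIndex_bot_left, relIndex_mul_relIndex _ _ _ bot_le le_sup_left,
        relIndex_mul_relIndex _ _ _ bot_le le_sup_right]
    rw [h1, mul_comm] at h2
    exact (Nat.eq_of_mul_eq_mul_left Nat.card_pos h2).symm
  have hNi : N.index = Nat.card M := by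
    rw [← relIndex_top_right, ← hsup, card_eq_of_inf_bot hinf]
  have hGc : Nat.card N * Nat.card M = Nat.card G := by rw [← hNi]; exact N.card_mul_index
  rcases hmax M hM with ⟨K₀, hK₀n, hK₀c, k, hk⟩ | hprime
  · -- `M` has a normal `p`-complement
    set K := K₀.map M.subtype with hKdef
    have hKM : K ≤ M := map_subtype_le _
    have hKc : Nat.card K = Nat.card K₀ := card_map_of_injective M.subtype_injective
    have hCn : (N ⊔ K).Normal := by
      rw [← normalizer_eq_top_iff, eq_top_iff, ← hsup, sup_le_iff]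
      refine ⟨le_sup_left.trans le_normalizer, ?_⟩
      intro x hx
      rw [mem_normalizer_iff_map_conj_eq, Subgroup.map_sup]
      congr 1
      · exact Subgroup.Normal.map_conj_eq N x
      · have hk := Subgroup.Normal.map_conj_eq K₀ (⟨x, hx⟩ : M)
        conv_rhs => rw [hKdef, ← hk]
        rw [hKdef, Subgroup.map_map, Subgroup.map_map]
        rfl
    have hNK : N ⊓ K = ⊥ := le_bot_iff.mp ((inf_le_inf_left N hKM).trans hinf.le)
    refine ⟨⊥, N, N ⊔ K, inferInstance, hNn, hCn, bot_le, le_sup_left,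
      by simp [hp.out.not_dvd_one], ⟨m, by rw [relIndex_bot_left, hm]⟩, ?_, k, ?_⟩
    · rwa [card_eq_of_inf_bot hNK, hKc]
    · have h1 : Nat.card ↥(N ⊔ K) * (N ⊔ K).index = Nat.card G := card_mul_index _
      have h2 : Nat.card ↥(N ⊔ K) = Nat.card N * Nat.card K := by
        rw [← card_eq_of_inf_bot hNK, ← relIndex_bot_left, ← relIndex_bot_left,
          relIndex_mul_relIndex _ _ _ bot_le le_sup_left]
      rw [h2, ← hGc, hKc, ← K₀.card_mul_index, hk, mul_assoc] at h1
      exact Nat.eq_of_mul_eq_mul_left Nat.card_pos (Nat.eq_of_mul_eq_mul_left Nat.card_pos h1)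
  · -- `M` has prime index
    rw [hidx, hm] at hprime
    have hm1 : m = 1 := (Nat.Prime.eq_one_of_pow hprime)
    set L := M ⊓ centralizer (N : Set G) with hLdef
    have hLn : L.Normal := by
      have hc : (centralizer (N : Set G)).Normal := inferInstance
      rw [← normalizer_eq_top_iff, eq_top_iff, ← hsup, sup_le_iff]
      constructor
      · intro x hx
        rw [Subgroup.mem_normalizer_iff]
        intro y
        refine ⟨fun hy => ?_, fun hy => ?_⟩
        · rwa [mem_centralizer_iff.mp hy.2 x hx, mul_inv_cancel_right]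
        · have e := mem_centralizer_iff.mp hy.2 x hx
          have : x * y * x⁻¹ = y := by
            have := congrArg (fun z => x⁻¹ * z) e
            simp only [inv_mul_cancel_left] at this
            simpa [mul_assoc] using this
          rwa [this] at hy
      · intro x hx
        rw [Subgroup.mem_normalizer_iff]
        intro y
        simp only [hLdef, mem_inf]
        refine and_congr ⟨fun h => mul_mem (mul_mem hx h) (inv_mem hx), fun h => ?_⟩
          ⟨fun h => hc.conj_mem y h x, fun h => ?_⟩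
        · have := mul_mem (mul_mem (inv_mem hx) h) hx
          simpa [mul_assoc] using this
        · have := hc.conj_mem _ h x⁻¹
          simpa [mul_assoc] using this
    have hNL : N ⊓ L = ⊥ := le_bot_iff.mp ((inf_le_inf_left N inf_le_left).trans hinf.le)
    by_cases hL : L = ⊥
    swap
    · exact ser_of_inf hNL (IH N hN) (IH L hL)
    refine ⟨⊥, N, ⊤, inferInstance, hNn, inferInstance, bot_le, le_top,
      by simp [hp.out.not_dvd_one], ⟨m, by rw [relIndex_bot_left, hm]⟩, ?_, ⟨0, by simp⟩⟩
    rw [relIndex_top_right, hNi]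
    let φ : M →* MulAut N := (MulAut.conjNormal).comp M.subtype
    have hφ : Function.Injective φ := by
      rw [injective_iff_map_eq_one]
      intro x hx
      have hxL : (x : G) ∈ L := by
        refine ⟨x.2, mem_centralizer_iff.mpr fun y hy => ?_⟩
        have e := congrArg Subtype.val (DFunLike.congr_fun hx ⟨y, hy⟩)
        simp only [φ, MonoidHom.coe_comp, Function.comp_apply, coe_subtype,
          MulAut.conjNormal_apply, MulAut.one_apply] at e
        exact (mul_inv_eq_iff_eq_mul.mp e).symm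
      rw [hL, mem_bot] at hxL
      exact Subtype.ext hxL
    have hNc : Nat.card N = p := by rw [hm, hm1, pow_one]
    haveI : IsCyclic N := isCyclic_of_prime_card hNc
    have hd := Subgroup.card_dvd_of_injective φ hφ
    rw [IsCyclic.card_mulAut, hNc, Nat.totient_prime hp.out] at hd
    intro hpd
    have := Nat.le_of_dvd (by have := hp.out.two_le; omega) (hpd.trans hd)
    have := hp.out.two_le
    omega

theorem ser (G : Type u) [Group G] [Finite G] (p : ℕ) [Fact p.Prime] (h : IsPSolvable p G)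
    (hmax : MaxHyp p G) : Ser p G :=
  main _ G rfl h hmax

end Cfsg.Agent.H42.MaxPNilp
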