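import Mathlib
import Cfsg.Agent.H41.OddStable
import Cfsg.Agent.Cores.PCore
import Cfsg.Agent.PGroups.Basic

/-!
Subgroups of odd order in `GL(2, F)`, `F` of odd characteristic `p`, of order divisible by `p`.
-/

set_option autoImplicit false

namespace Cfsg.Agent.H42

open Matrix
open scoped commutatorElement

variable {F : Type*} [Field F] {p : ℕ}

theorem sq_zero_of_nilpotent (N : Matrix (Fin 2) (Fin 2) F) {k : ℕ} (hk : N ^ k = 0) :
    N * N = 0 := by
  rcases Nat.eq_zero_or_pos k with rfl | hk0
  · exact absurd hk (by simp)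
  have hd : N.det = 0 := by
    have := congrArg Matrix.det hk
    rw [Matrix.det_pow, Matrix.det_zero] at this
    exact pow_eq_zero_iff hk0.ne' |>.mp this
  rw [Matrix.det_fin_two] at hd
  set t := N 0 0 + N 1 1 with ht
  have h2 : N * N = t • N := by
    ext i j
    fin_cases i <;> fin_cases j <;>
      simp [Matrix.mul_apply, Fin.sum_univ_two, ht, Matrix.smul_apply] <;>
      (first | linear_combination hd | linear_combination -hd | ring1)
  have hpow : ∀ m, N ^ (m + 1) = t ^ m • N := by
    intro m
    induction m with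
    | zero => simp
    | succ m ih => rw [pow_succ, ih, Matrix.smul_mul, h2, smul_smul, pow_succ]
  obtain ⟨m, rfl⟩ := Nat.exists_eq_succ_of_ne_zero hk0.ne'
  rw [hpow] at hk
  rcases smul_eq_zero.mp hk with h | h
  · rw [h2, pow_eq_zero_iff'.mp h |>.1, zero_smul]
  · rw [h, mul_zero]

theorem pow_of_sq_zero {R : Type*} [Ring R] {a : R} (ha : (a - 1) * (a - 1) = 0) (n : ℕ) :
    a ^ n = 1 + n • (a - 1) := by
  induction n with
  | zero => simp
  | succ n ih =>
    rw [pow_succ, ih]
    calc (1 + n • (a - 1)) * a = 1 + (n + 1) • (a - 1) + n • ((a - 1) * (a - 1)) := by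
          simp only [smul_sub, add_mul, sub_mul, mul_sub, smul_mul_assoc, one_mul, mul_one, succ_nsmul]
          abel
      _ = _ := by rw [ha, smul_zero, add_zero]

theorem sq_zero_of_pow_eq_one [Fact p.Prime] [CharP F p] (x : Matrix (Fin 2) (Fin 2) F)
    (hx : x ^ p = 1) : (x - 1) * (x - 1) = 0 :=
  sq_zero_of_nilpotent (x - 1) (k := p) (by
    rw [sub_pow_char_of_commute p (Commute.one_right x), one_pow, hx, sub_self])

/-- In an irreducible subgroup of odd order of `GL(2, F)` the characteristic does not divide the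
order. -/
theorem exists_invariant_line [Fact p.Prime] [CharP F p] (hp : p ≠ 2)
    (H : Subgroup (GL (Fin 2) F)) [Finite H] (hodd : Odd (Nat.card H)) (hdvd : p ∣ Nat.card H) :
    ∃ v : Fin 2 → F, v ≠ 0 ∧
      ∀ g ∈ H, (g : Matrix (Fin 2) (Fin 2) F).mulVec v ∈ Submodule.span F {v} := by
  classical
  have hp' : p.Prime := Fact.out
  obtain ⟨x, hx⟩ := exists_prime_orderOf_dvd_card' p hdvd
  let mat : H → Matrix (Fin 2) (Fin 2) F := fun h => ((h : GL (Fin 2) F) : Matrix (Fin 2) (Fin 2) F)
  have hmat : ∀ g h, mat (g * h) = mat g * mat h := fun g h => rfl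
  have hmat1 : mat 1 = 1 := rfl
  have hmpow : ∀ g n, mat (g ^ n) = mat g ^ n := fun g n => by
    induction n with
    | zero => simpa using hmat1
    | succ n ih => rw [pow_succ, hmat, ih, pow_succ]
  have hinj : ∀ g h, mat g = mat h → g = h := fun g h e => Subtype.ext (Units.ext e)
  have hx2 : (mat x - 1) * (mat x - 1) = 0 := sq_zero_of_pow_eq_one (mat x) (by
    rw [← hmpow, ← hx, pow_orderOf_eq_one, hmat1])
  -- a finite invariant additive subgroup
  set S : Set (Fin 2 → F) := Set.range fun t : H × Fin 2 => (mat t.1).mulVec (Pi.single t.2 1) with hS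
  set A : AddSubgroup (Fin 2 → F) := AddSubgroup.closure S with hA
  have hexp : ∀ v : Fin 2 → F, p • v = 0 := fun v => funext fun i => by
    rw [Pi.smul_apply, nsmul_eq_mul, CharP.cast_eq_zero, zero_mul, Pi.zero_apply]
  haveI : AddGroup.FG A := (AddGroup.fg_iff_addSubgroup_fg A).mpr
    (AddSubgroup.fg_iff _ |>.mpr ⟨S, rfl, Set.finite_range _⟩)
  haveI : Finite A := AddCommGroup.finite_of_fg_isAddTorsion (G := A) fun a =>
    isOfFinAddOrder_iff_nsmul_eq_zero.mpr ⟨p, hp'.pos, Subtype.ext (by simpa using hexp (a : Fin 2 → F))⟩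
  have hinv : ∀ (h : H), ∀ v ∈ A, (mat h).mulVec v ∈ A := by
    intro h v hv
    induction hv using AddSubgroup.closure_induction with
    | mem w hw =>
      obtain ⟨⟨g, i⟩, rfl⟩ := hw
      refine AddSubgroup.subset_closure ⟨⟨h * g, i⟩, ?_⟩
      show (mat (h * g)).mulVec _ = _
      rw [hmat, ← Matrix.mulVec_mulVec]
    | zero => rw [Matrix.mulVec_zero]; exact zero_mem _
    | add u w _ _ hu hw => rw [Matrix.mulVec_add]; exact add_mem hu hw
    | neg u _ hu => rw [Matrix.mulVec_neg]; exact neg_mem hu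
  have hbasis : ∀ i : Fin 2, (Pi.single i 1 : Fin 2 → F) ∈ A := fun i =>
    AddSubgroup.subset_closure ⟨⟨1, i⟩, by show (mat 1).mulVec _ = _; rw [hmat1, Matrix.one_mulVec]⟩
  -- the semidirect product
  let e : H → Multiplicative A ≃* Multiplicative A := fun h =>
    { toFun := fun a => Multiplicative.ofAdd ⟨(mat h).mulVec (a.toAdd : Fin 2 → F), hinv h _ a.toAdd.2⟩
      invFun := fun a => Multiplicative.ofAdd ⟨(mat h⁻¹).mulVec (a.toAdd : Fin 2 → F), hinv _ _ a.toAdd.2⟩
      left_inv := fun a => Multiplicative.toAdd.injective (Subtype.ext (by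
        show (mat h⁻¹).mulVec ((mat h).mulVec _) = _
        rw [Matrix.mulVec_mulVec, ← hmat, inv_mul_cancel, hmat1, Matrix.one_mulVec]))
      right_inv := fun a => Multiplicative.toAdd.injective (Subtype.ext (by
        show (mat h).mulVec ((mat h⁻¹).mulVec _) = _
        rw [Matrix.mulVec_mulVec, ← hmat, mul_inv_cancel, hmat1, Matrix.one_mulVec]))
      map_mul' := fun a b => Multiplicative.toAdd.injective (Subtype.ext
        (Matrix.mulVec_add (mat h) (a.toAdd : Fin 2 → F) (b.toAdd : Fin 2 → F))) }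
  let φ : H →* MulAut (Multiplicative A) := MonoidHom.mk' e fun g h => MulEquiv.ext fun a =>
    Multiplicative.toAdd.injective (Subtype.ext (by
      show (mat (g * h)).mulVec _ = (mat g).mulVec ((mat h).mulVec _)
      rw [hmat, Matrix.mulVec_mulVec]))
  have hφ : ∀ (h : H) (a : Multiplicative A),
      (((φ h a).toAdd : A) : Fin 2 → F) = (mat h).mulVec (a.toAdd : Fin 2 → F) := fun _ _ => rfl
  haveI : Finite (Multiplicative A ⋊[φ] H) := Finite.of_equiv _ SemidirectProduct.equivProd.symm
  have hoddT : Odd (Nat.card (Multiplicative A ⋊[φ] H)) := by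
    rw [show Nat.card (Multiplicative A ⋊[φ] H) = Nat.card (Multiplicative A) * Nat.card H by
      rw [← Nat.card_prod]; exact Nat.card_congr SemidirectProduct.equivProd]
    refine Odd.mul ?_ hodd
    have hA' : IsPGroup p (Multiplicative A) := fun a => ⟨1, by
      rw [pow_one]
      exact Multiplicative.toAdd.injective (Subtype.ext (by simpa using hexp (a.toAdd : Fin 2 → F)))⟩
    obtain ⟨n, hn⟩ := IsPGroup.iff_card.mp hA'
    rw [hn]; exact (hp'.odd_of_ne_two hp).pow
  set B : Subgroup (Multiplicative A ⋊[φ] H) := (SemidirectProduct.rightHom (φ := φ)).ker with hB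
  have hBmem : ∀ t : (Multiplicative A ⋊[φ] H), t ∈ B ↔ t.right = 1 := fun t => Iff.rfl
  have hBp : IsPGroup p B := fun b => ⟨1, by
    rw [pow_one]
    obtain ⟨a, ha⟩ : (b : (Multiplicative A ⋊[φ] H)) ∈ (SemidirectProduct.inl : Multiplicative A →* (Multiplicative A ⋊[φ] H)).range := by
      rw [SemidirectProduct.range_inl_eq_ker_rightHom]; exact b.2
    refine Subtype.ext ?_
    show (b : (Multiplicative A ⋊[φ] H)) ^ p = 1
    rw [← ha, ← map_pow]
    rw [show a ^ p = 1 from
      Multiplicative.toAdd.injective (Subtype.ext (by simpa using hexp (a.toAdd : Fin 2 → F))), map_one]⟩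
  have hCB : Subgroup.centralizer (B : Set (Multiplicative A ⋊[φ] H)) ≤ B := by
    intro t ht
    rw [hBmem]
    refine hinj _ _ (hmat1.symm ▸ ?_)
    refine Matrix.toLin'.injective ((Pi.basisFun F (Fin 2)).ext fun i => ?_)
    rw [Pi.basisFun_apply, Matrix.toLin'_apply, Matrix.toLin'_apply, Matrix.one_mulVec]
    set a : Multiplicative A := Multiplicative.ofAdd ⟨Pi.single i 1, hbasis i⟩ with ha
    have h := congrArg SemidirectProduct.left
      (Subgroup.mem_centralizer_iff.mp ht (SemidirectProduct.inl a) (SemidirectProduct.rightHom_inl a))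
    simp only [SemidirectProduct.mul_left, SemidirectProduct.left_inl, SemidirectProduct.right_inl,
      map_one, MulAut.one_apply] at h
    rw [mul_comm a] at h
    have := mul_left_cancel h
    have h3 := congrArg (fun u : Multiplicative A => ((u.toAdd : A) : Fin 2 → F)) this
    simp only [hφ] at h3
    exact h3.symm
  -- `x` lies in `O_p(H)`
  have hxcore : x ∈ Cfsg.pCore p H := by
    have hquad : ⁅⁅B, Subgroup.zpowers (SemidirectProduct.inr x : (Multiplicative A ⋊[φ] H))⁆,
        Subgroup.zpowers (SemidirectProduct.inr x : (Multiplicative A ⋊[φ] H))⁆ = ⊥ := by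
      have hcomm : ∀ (b : (Multiplicative A ⋊[φ] H)) (i : ℤ), b ∈ B →
          ⁅b, (SemidirectProduct.inr x : (Multiplicative A ⋊[φ] H)) ^ i⁆ = SemidirectProduct.inl (b.left * (φ (x ^ i) b.left)⁻¹) := by
        intro b i hb
        rw [← map_zpow, commutatorElement_def]
        generalize x ^ i = y
        have hb1 : b.right = 1 := hb
        refine SemidirectProduct.ext ?_ ?_ <;>
          simp [SemidirectProduct.mul_left, SemidirectProduct.mul_right, hb1]
      set D : Subgroup (Multiplicative A ⋊[φ] H) := B ⊓ Subgroup.centralizer ({SemidirectProduct.inr x} : Set (Multiplicative A ⋊[φ] H)) with hD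
      refine le_bot_iff.mp ((Subgroup.commutator_mono
        (show ⁅B, Subgroup.zpowers (SemidirectProduct.inr x : (Multiplicative A ⋊[φ] H))⁆ ≤ D from ?_) le_rfl).trans ?_)
      · refine Subgroup.commutator_le.mpr ?_
        rintro b hb _ ⟨i, rfl⟩
        show ⁅b, (SemidirectProduct.inr x : (Multiplicative A ⋊[φ] H)) ^ i⁆ ∈ D
        rw [hcomm b i hb]
        refine ⟨SemidirectProduct.rightHom_inl _, Subgroup.mem_centralizer_singleton_iff.mpr ?_⟩
        refine SemidirectProduct.ext ?_ (by simp [SemidirectProduct.mul_right])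
        simp only [SemidirectProduct.mul_left, SemidirectProduct.left_inl, SemidirectProduct.right_inl,
          SemidirectProduct.left_inr, SemidirectProduct.right_inr, map_one, MulAut.one_apply, mul_one,
          one_mul]
        refine Multiplicative.toAdd.injective (Subtype.ext ?_)
        simp only [hφ, toAdd_mul, toAdd_inv, AddSubgroup.coe_add, AddSubgroup.coe_neg]
        obtain ⟨n, hn⟩ : ∃ n : ℕ, x ^ i = x ^ n := by
          obtain ⟨n, hn⟩ := mem_powers_iff_mem_zpowers.mpr
            (Subgroup.zpow_mem_zpowers x i)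
          exact ⟨n, hn.symm⟩
        have hlin : mat (x ^ n) = 1 + n • (mat x - 1) := by rw [hmpow, pow_of_sq_zero hx2]
        rw [hn, hlin]
        set v : Fin 2 → F := ((b.left.toAdd : A) : Fin 2 → F)
        have h0 : (mat x - 1).mulVec ((n • (mat x - 1)).mulVec v) = 0 := by
          rw [Matrix.mulVec_mulVec, mul_smul_comm, hx2, smul_zero, Matrix.zero_mulVec]
        rw [Matrix.sub_mulVec, Matrix.one_mulVec, sub_eq_zero] at h0
        simp only [Matrix.add_mulVec, Matrix.one_mulVec, Matrix.mulVec_add, Matrix.mulVec_neg, h0]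
        abel
      · refine (Subgroup.commutator_eq_bot_iff_le_centralizer.mpr fun d hd => ?_).le
        rw [Subgroup.zpowers_eq_closure, Subgroup.centralizer_closure]
        exact hd.2
    have h1 := H41.stableOnNormal_of_odd (p := p) hp hoddT B hBp (SemidirectProduct.inr x) hquad
    let q : (Multiplicative A ⋊[φ] H) ⧸ Subgroup.centralizer (B : Set (Multiplicative A ⋊[φ] H)) →* H :=
      QuotientGroup.lift _ (SemidirectProduct.rightHom (φ := φ)) hCB
    have hq : Function.Surjective q := fun h =>
      ⟨QuotientGroup.mk (SemidirectProduct.inr h : Multiplicative A ⋊[φ] H), SemidirectProduct.rightHom_inr (φ := φ) h⟩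
    have h2 := Cores.pCore_map_le (p := p) hq ⟨_, h1, rfl⟩
    simpa [q] using h2
  -- a vector fixed by `O_p(H)`
  set P : Subgroup (Multiplicative A ⋊[φ] H) := (Cfsg.pCore p H).comap (SemidirectProduct.rightHom (φ := φ)) with hP
  have hPp : IsPGroup p P := Cores.pCore_isPGroup.comap_of_ker_isPGroup _ hBp
  have hBP : B ≤ P := fun b hb => by
    rw [hP, Subgroup.mem_comap, MonoidHom.mem_ker.mp hb]; exact one_mem _
  have hBne : B.subgroupOf P ≠ ⊥ := by
    rw [ne_eq, Subgroup.subgroupOf_eq_bot, disjoint_iff, inf_eq_left.mpr hBP]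
    intro hbot
    have h : (SemidirectProduct.inl (Multiplicative.ofAdd (⟨Pi.single 0 1, hbasis 0⟩ : A)) :
        (Multiplicative A ⋊[φ] H)) ∈ B := SemidirectProduct.rightHom_inl _
    rw [hbot, Subgroup.mem_bot] at h
    have := congrArg (fun t : (Multiplicative A ⋊[φ] H) => ((t.left.toAdd : A) : Fin 2 → F) 0) h
    simp at this
  obtain ⟨c, hc, hc1⟩ := (Subgroup.bot_or_exists_ne_one _).resolve_left
    (PGroups.inf_center_ne_bot hPp (B.subgroupOf P) hBne)
  set w : Fin 2 → F := (((c : (Multiplicative A ⋊[φ] H)).left.toAdd : A) : Fin 2 → F) with hw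
  have hcr : (c : (Multiplicative A ⋊[φ] H)).right = 1 := hc.1
  have hw0 : w ≠ 0 := by
    intro h0
    refine hc1 (Subtype.ext (SemidirectProduct.ext ?_ hcr))
    exact Multiplicative.toAdd.injective (Subtype.ext h0)
  have hfix : ∀ y ∈ Cfsg.pCore p H, (mat y).mulVec w = w := by
    intro y hy
    have h := congrArg (fun t : P => ((t : (Multiplicative A ⋊[φ] H)).left.toAdd : A))
      (Subgroup.mem_center_iff.mp hc.2 ⟨SemidirectProduct.inr y, by
        rw [hP, Subgroup.mem_comap, SemidirectProduct.rightHom_inr]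
        exact hy⟩)
    simp only [Subgroup.coe_mul, SemidirectProduct.mul_left, SemidirectProduct.left_inr,
      SemidirectProduct.right_inr, hcr, map_one, MulAut.one_apply, one_mul, mul_one] at h
    have h' := congrArg (fun u : A => (u : Fin 2 → F)) h
    simp only [hφ] at h'
    exact h'
  refine ⟨w, hw0, fun g hg => ?_⟩
  by_contra hnot
  have hx' : ∀ u : Fin 2 → F, u = w ∨ u = (mat ⟨g, hg⟩).mulVec w → (mat x).mulVec u = u := by
    rintro u (rfl | rfl)
    · exact hfix x hxcore
    · have h1 := hfix _ ((Cfsg.pCore_normal p H).conj_mem x hxcore (⟨g, hg⟩ : H)⁻¹)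
      rw [inv_inv, hmat, hmat, ← Matrix.mulVec_mulVec, ← Matrix.mulVec_mulVec] at h1
      have h2 := congrArg (fun u => (mat ⟨g, hg⟩).mulVec u) h1
      simp only [Matrix.mulVec_mulVec, ← hmat, mul_inv_cancel_left] at h2
      simpa only [hmat, ← Matrix.mulVec_mulVec] using h2
  have hli : LinearIndependent F ![w, (mat ⟨g, hg⟩).mulVec w] :=
    (LinearIndependent.pair_iff' hw0).mpr fun a ha =>
      hnot (Submodule.mem_span_singleton.mpr ⟨a, ha⟩)
  have hone : mat x = 1 := by
    refine Matrix.toLin'.injective ((basisOfLinearIndependentOfCardEqFinrank hli (by simp)).ext fun i => ?_)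
    rw [coe_basisOfLinearIndependentOfCardEqFinrank, Matrix.toLin'_apply, Matrix.toLin'_apply,
      Matrix.one_mulVec]
    fin_cases i
    · exact hx' _ (Or.inl rfl)
    · exact hx' _ (Or.inr rfl)
  rw [hinj x 1 (hone.trans hmat1.symm), orderOf_one] at hx
  exact hp'.one_lt.ne hx

end Cfsg.Agent.H42
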