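import Mathlib
import Cfsg.Prelude.Def_OddOrderLocal

/-!
Formal properties of the Puig series.
-/

set_option autoImplicit false

namespace Cfsg.Agent.H42

open Cfsg

variable {G : Type*} [Group G]

theorem puigStep_anti {X Y : Subgroup G} (h : X ≤ Y) : puigStep Y ≤ puigStep X :=
  sSup_le_sSup fun _ hA => ⟨hA.1, h.trans hA.2⟩

theorem le_puigStep {X A : Subgroup G} (hA : IsMulCommutative A)
    (hX : X ≤ Subgroup.normalizer (A : Set G)) : A ≤ puigStep X :=
  le_sSup ⟨hA, hX⟩

theorem puigSeq_succ (n : ℕ) : puigSeq G (n + 1) = puigStep (puigSeq G n) := rfl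

theorem puigSeq_one : puigSeq G 1 = ⊤ := by
  refine eq_top_iff.mpr fun x _ => ?_
  exact le_puigStep (X := (⊥ : Subgroup G)) (A := Subgroup.zpowers x) inferInstance bot_le
    (Subgroup.mem_zpowers x)

theorem puigSeq_two_mul_le_succ (n : ℕ) :
    puigSeq G (2 * n) ≤ puigSeq G (2 * n + 2) ∧
      puigSeq G (2 * n + 3) ≤ puigSeq G (2 * n + 1) := by
  induction n with
  | zero =>
    refine ⟨bot_le, ?_⟩
    rw [show 2 * 0 + 1 = 1 from rfl, puigSeq_one]
    exact le_top
  | succ n ih =>
    rw [show 2 * (n + 1) = 2 * n + 2 by ring]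
    refine ⟨?_, ?_⟩
    · exact puigStep_anti ih.2
    · exact puigStep_anti (puigStep_anti ih.2)

theorem puigSeq_even_mono : Monotone fun n => puigSeq G (2 * n) :=
  monotone_nat_of_le_succ fun n => (puigSeq_two_mul_le_succ n).1

theorem puigSeq_odd_anti : Antitone fun n => puigSeq G (2 * n + 1) :=
  antitone_nat_of_succ_le fun n => (puigSeq_two_mul_le_succ n).2

theorem puigSeq_even_le_odd_self (n : ℕ) : puigSeq G (2 * n) ≤ puigSeq G (2 * n + 1) := by
  induction n with
  | zero => exact bot_le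
  | succ n ih =>
    rw [show 2 * (n + 1) = 2 * n + 2 by ring]
    exact puigStep_anti (puigStep_anti ih)

theorem puigSeq_even_le_odd (n m : ℕ) : puigSeq G (2 * n) ≤ puigSeq G (2 * m + 1) :=
  (puigSeq_even_mono (le_max_left n m)).trans
    ((puigSeq_even_le_odd_self _).trans (puigSeq_odd_anti (le_max_right n m)))

theorem puigLower_le : puigLower G ≤ puigSubgroup G :=
  iSup_le fun n => le_iInf fun m => puigSeq_even_le_odd n m

theorem puig_stabilizes [Finite G] :
    ∃ k : ℕ, ∀ n : ℕ, k ≤ n → puigSeq G (2 * n) = puigLower G ∧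
      puigSeq G (2 * n + 1) = puigSubgroup G := by
  haveI : Finite (Subgroup G) := inferInstance
  obtain ⟨a, ha⟩ := WellFoundedGT.monotone_chain_condition
    ⟨fun n => puigSeq G (2 * n), puigSeq_even_mono⟩
  obtain ⟨b, hb⟩ := WellFoundedLT.antitone_chain_condition (puigSeq_odd_anti (G := G))
  refine ⟨max a b, fun n hn => ⟨le_antisymm (le_iSup (fun m => puigSeq G (2 * m)) n)
    (iSup_le fun m => ?_), le_antisymm (le_iInf fun m => ?_) (iInf_le _ n)⟩⟩
  · refine (puigSeq_even_mono (le_max_left m n)).trans (le_of_eq ?_)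
    have han : a ≤ n := (le_max_left a b).trans hn
    exact ((ha _ (han.trans (le_max_right m n))).symm.trans (ha n han) :)
  · refine (le_of_eq ?_).trans (puigSeq_odd_anti (le_max_left m n))
    have hbn : b ≤ n := (le_max_right a b).trans hn
    exact ((hb n hbn).symm.trans (hb _ (hbn.trans (le_max_right m n))) :)

theorem puigStep_lower [Finite G] : puigStep (puigLower G) = puigSubgroup G := by
  obtain ⟨k, hk⟩ := puig_stabilizes (G := G)
  rw [← (hk k le_rfl).1, ← (hk k le_rfl).2]
  rfl

theorem puigStep_puigSubgroup [Finite G] : puigStep (puigSubgroup G) = puigLower G := by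
  obtain ⟨k, hk⟩ := puig_stabilizes (G := G)
  rw [← (hk k le_rfl).2, ← (hk (k + 1) (Nat.le_succ k)).1]
  rfl

/-- A finite `p`-group has a self-centralising abelian normal subgroup. -/
theorem exists_scn [Finite G] {p : ℕ} [Fact p.Prime] (hG : IsPGroup p G) :
    ∃ A : Subgroup G, A.Normal ∧ IsMulCommutative A ∧ Subgroup.centralizer (A : Set G) = A := by
  obtain ⟨A, ⟨hAn, hAc⟩, hAmax⟩ := (Set.toFinite {A : Subgroup G | A.Normal ∧ IsMulCommutative A}).exists_maximal
    ⟨⊥, inferInstance, inferInstance⟩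
  haveI := hAn
  haveI := hAc
  refine ⟨A, hAn, hAc, ?_⟩
  have hAle : A ≤ Subgroup.centralizer (A : Set G) := Subgroup.le_centralizer A
  refine le_antisymm ?_ hAle
  by_contra hne
  let C : Subgroup (G ⧸ A) := (Subgroup.centralizer (A : Set G)).map (QuotientGroup.mk' A)
  haveI : C.Normal := (inferInstance : (Subgroup.centralizer (A : Set G)).Normal).map _
    (QuotientGroup.mk'_surjective A)
  have hC : Nontrivial C := by
    rw [Subgroup.nontrivial_iff_ne_bot]
    intro h
    apply hne
    have := (Subgroup.map_eq_bot_iff _).mp h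
    rwa [QuotientGroup.ker_mk'] at this
  haveI hQ : IsPGroup p (G ⧸ A) := hG.to_quotient A
  haveI : Nontrivial (G ⧸ A) := by
    obtain ⟨x, y, hxy⟩ := hC
    exact ⟨x, y, fun h => hxy (Subtype.ext h)⟩
  obtain ⟨n, hn, hc⟩ := (hQ.to_subgroup C).nontrivial_iff_card.mp hC
  obtain ⟨z, hz, hz1⟩ : ∃ z : C, z ∈ MulAction.fixedPoints (ConjAct (G ⧸ A)) C ∧ (1 : C) ≠ z := by
    refine (IsPGroup.of_equiv hQ ConjAct.toConjAct).exists_fixed_point_of_prime_dvd_card_of_fixed_point
      C ?_ ?_
    · rw [hc]; exact dvd_pow_self p hn.ne'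
    · intro g; simp
  obtain ⟨y, hy, hyz⟩ := z.2
  have hcomm : ∀ g : G, g * y * g⁻¹ * y⁻¹ ∈ A := by
    intro g
    rw [← QuotientGroup.eq_one_iff]
    have h1 := hz (ConjAct.toConjAct (g : G ⧸ A))
    have h2 : (g : G ⧸ A) * (z : G ⧸ A) * (g : G ⧸ A)⁻¹ = z := by
      simpa [Subtype.ext_iff, ConjAct.Subgroup.val_conj_smul, ConjAct.smul_def] using h1
    rw [← hyz] at h2
    simpa [mul_inv_eq_one] using h2
  let B := A ⊔ Subgroup.zpowers y
  have hBc : IsMulCommutative B := by
    rw [show B = Subgroup.closure ((A : Set G) ∪ {y}) by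
      rw [Subgroup.closure_union, Subgroup.closure_eq, ← Subgroup.zpowers_eq_closure]]
    refine Subgroup.isMulCommutative_closure ?_
    rintro a (ha | ha) b (hb | hb)
    · exact (hAle hb) a ha
    · rw [Set.mem_singleton_iff] at hb; subst hb; exact hy a ha
    · rw [Set.mem_singleton_iff] at ha; subst ha; exact (hy b hb).symm
    · rw [Set.mem_singleton_iff] at ha hb; subst ha hb; rfl
  have hBn : B.Normal := by
    constructor
    intro b hb g
    have hB : B.map (MulAut.conj g).toMonoidHom ≤ B := by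
      rw [Subgroup.map_sup, sup_le_iff]
      refine ⟨?_, ?_⟩
      · rintro _ ⟨a, ha, rfl⟩
        exact Subgroup.mem_sup_left (hAn.conj_mem a ha g)
      · rw [MonoidHom.map_zpowers, Subgroup.zpowers_le]
        have : g * y * g⁻¹ = g * y * g⁻¹ * y⁻¹ * y := by group
        show g * y * g⁻¹ ∈ B
        rw [this]
        exact mul_mem (Subgroup.mem_sup_left (hcomm g))
          (Subgroup.mem_sup_right (Subgroup.mem_zpowers y))
    exact hB ⟨b, hb, rfl⟩
  have hyA : y ∈ A :=
    (hAmax (y := B) ⟨hBn, hBc⟩ le_sup_left) (Subgroup.mem_sup_right (Subgroup.mem_zpowers y))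
  exact hz1 (Subtype.ext (by rw [← hyz]; exact ((QuotientGroup.eq_one_iff y).mpr hyA).symm))

theorem puig_centralizer_le [Finite G] {p : ℕ} [Fact p.Prime] (hG : IsPGroup p G) (X : Subgroup G) :
    Subgroup.centralizer (puigStep X : Set G) ≤ puigStep X := by
  obtain ⟨A, hAn, hAc, hA⟩ := exists_scn hG
  have h : A ≤ puigStep X := le_puigStep hAc fun x _ => Subgroup.normalizer_eq_top_iff.mpr hAn ▸ Subgroup.mem_top x
  exact (Subgroup.centralizer_le h).trans (hA.le.trans h)

end Cfsg.Agent.H42
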