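import Cfsg.Agent.H42.Puig

/-!
The Puig series of a subgroup, viewed inside the ambient group.
-/

set_option autoImplicit false

namespace Cfsg.Agent.H42

open Subgroup

variable {G : Type*} [Group G]

/-- `L_R(X)` inside the ambient group. -/
def stepIn (R X : Subgroup G) : Subgroup G :=
  sSup {A : Subgroup G | A ≤ R ∧ IsMulCommutative A ∧ X ≤ normalizer (A : Set G)}

theorem le_stepIn {R X A : Subgroup G} (hA : A ≤ R) (hc : IsMulCommutative A)
    (hn : X ≤ normalizer (A : Set G)) : A ≤ stepIn R X :=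
  le_sSup ⟨hA, hc, hn⟩

theorem stepIn_le {R X B : Subgroup G}
    (h : ∀ A : Subgroup G, A ≤ R → IsMulCommutative A → X ≤ normalizer (A : Set G) → A ≤ B) :
    stepIn R X ≤ B :=
  sSup_le fun A hA => h A hA.1 hA.2.1 hA.2.2

theorem map_puigStep (R : Subgroup G) (Y : Subgroup R) :
    (puigStep Y).map R.subtype = stepIn R (Y.map R.subtype) := by
  refine le_antisymm ?_ (stepIn_le ?_)
  · rw [map_le_iff_le_comap]
    refine sSup_le fun A hA => ?_
    haveI := hA.1
    rw [← map_le_iff_le_comap]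
    exact le_stepIn (map_subtype_le A) (Subgroup.map_isMulCommutative A _)
      ((map_mono hA.2).trans (le_normalizer_map _))
  · intro A hA hc hn
    haveI := hc
    refine (ge_of_eq (map_subgroupOf_eq_of_le hA)).trans
      (map_mono (le_puigStep (A := A.subgroupOf R) ⟨⟨fun a b => ?_⟩⟩ fun y hy => ?_))
    · exact Subtype.ext (Subtype.ext (congrArg (fun t : A => (t : G))
        (mul_comm' (⟨_, a.2⟩ : A) ⟨_, b.2⟩)))
    · have := hn ⟨y, hy, rfl⟩
      rw [mem_normalizer_iff] at this ⊢
      intro a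
      exact this (a : G)

/-- the Puig series of `R` inside `G` -/
def seqIn (R : Subgroup G) (n : ℕ) : Subgroup G := (puigSeq R n).map R.subtype

theorem seqIn_le (R : Subgroup G) (n : ℕ) : seqIn R n ≤ R := map_subtype_le _

theorem seqIn_zero (R : Subgroup G) : seqIn R 0 = ⊥ := map_bot _

theorem seqIn_succ (R : Subgroup G) (n : ℕ) : seqIn R (n + 1) = stepIn R (seqIn R n) :=
  map_puigStep R _

theorem seqIn_one (R : Subgroup G) : seqIn R 1 = R := by
  rw [seqIn, puigSeq_one, ← MonoidHom.range_eq_map, range_subtype]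

/-- `L_*(R)` inside `G` -/
def lowerIn (R : Subgroup G) : Subgroup G := (puigLower R).map R.subtype

/-- `L(R)` inside `G` -/
def upperIn (R : Subgroup G) : Subgroup G := (puigSubgroup R).map R.subtype

theorem lowerIn_eq (R : Subgroup G) : lowerIn R = ⨆ n, seqIn R (2 * n) := map_iSup _ _

theorem upperIn_eq (R : Subgroup G) : upperIn R = ⨅ n, seqIn R (2 * n + 1) :=
  map_iInf R.subtype R.subtype_injective _

theorem upperIn_le (R : Subgroup G) : upperIn R ≤ R := map_subtype_le _

theorem lowerIn_le_upperIn (R : Subgroup G) : lowerIn R ≤ upperIn R := map_mono puigLower_le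

theorem stepIn_lowerIn [Finite G] (R : Subgroup G) : stepIn R (lowerIn R) = upperIn R := by
  rw [upperIn, lowerIn, ← map_puigStep, puigStep_lower]

theorem stepIn_upperIn [Finite G] (R : Subgroup G) : stepIn R (upperIn R) = lowerIn R := by
  rw [upperIn, lowerIn, ← map_puigStep, puigStep_puigSubgroup]

theorem seqIn_compare {S T : Subgroup G} (hTS : T ≤ S)
    (key : ∀ (n : ℕ) (A : Subgroup G), A ≤ S → IsMulCommutative A →
      seqIn S (2 * n + 1) ≤ normalizer (A : Set G) → seqIn T (2 * n + 1) ≤ seqIn S (2 * n + 1) →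
      A ≤ T) (n : ℕ) :
    seqIn S (2 * n) ≤ seqIn T (2 * n) ∧ seqIn T (2 * n + 1) ≤ seqIn S (2 * n + 1) := by
  induction n with
  | zero => exact ⟨by rw [seqIn_zero]; exact bot_le, by simpa [seqIn_one] using hTS⟩
  | succ n ih =>
    have h1 : seqIn S (2 * n + 1 + 1) ≤ seqIn T (2 * n + 1 + 1) := by
      rw [seqIn_succ S, seqIn_succ T]
      exact stepIn_le fun A hA hc hn => le_stepIn (key n A hA hc hn ih.2) hc (ih.2.trans hn)
    refine ⟨h1, ?_⟩
    rw [show 2 * (n + 1) + 1 = 2 * n + 1 + 1 + 1 by ring, seqIn_succ T, seqIn_succ S]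
    exact stepIn_le fun A hA hc hn => le_stepIn (hA.trans hTS) hc (h1.trans hn)

theorem compare_lower_upper {S T : Subgroup G}
    (h : ∀ n, seqIn S (2 * n) ≤ seqIn T (2 * n) ∧ seqIn T (2 * n + 1) ≤ seqIn S (2 * n + 1)) :
    lowerIn S ≤ lowerIn T ∧ upperIn T ≤ upperIn S := by
  rw [lowerIn_eq, lowerIn_eq, upperIn_eq, upperIn_eq]
  exact ⟨iSup_mono fun n => (h n).1, iInf_mono fun n => (h n).2⟩

/-- The Puig subgroup of `S` is that of every subgroup between it and `S`. -/
theorem upperIn_eq_of_le [Finite G] {S R : Subgroup G} (hL : upperIn S ≤ R) (hRS : R ≤ S) :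
    upperIn R = upperIn S := by
  refine le_antisymm (compare_lower_upper (seqIn_compare hRS fun n A hA hc hn _ => ?_)).2 ?_
  · have : A ≤ seqIn S (2 * (n + 1)) := by
      rw [show 2 * (n + 1) = 2 * n + 1 + 1 by ring, seqIn_succ]; exact le_stepIn hA hc hn
    refine this.trans ?_
    refine le_trans (le_trans ?_ (lowerIn_le_upperIn S)) hL
    rw [lowerIn_eq]
    exact le_iSup (fun n => seqIn S (2 * n)) (n + 1)
  · have h : ∀ n, seqIn R (2 * n) ≤ lowerIn S ∧ upperIn S ≤ seqIn R (2 * n + 1) := by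
      intro n
      induction n with
      | zero => exact ⟨by rw [seqIn_zero]; exact bot_le, by simpa [seqIn_one] using hL⟩
      | succ n ih =>
        have h1 : seqIn R (2 * n + 1 + 1) ≤ lowerIn S := by
          rw [seqIn_succ R, ← stepIn_upperIn S]
          exact stepIn_le fun A hA hc hn => le_stepIn (hA.trans hRS) hc (ih.2.trans hn)
        refine ⟨h1, ?_⟩
        rw [show 2 * (n + 1) + 1 = 2 * n + 1 + 1 + 1 by ring, seqIn_succ R]
        refine (stepIn_lowerIn S).symm.le.trans (stepIn_le fun A hA hc hn => ?_)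
        refine le_stepIn (le_trans ?_ hL) hc (h1.trans hn)
        exact (le_stepIn hA hc hn).trans (stepIn_lowerIn S).le
    rw [upperIn_eq R]
    exact le_iInf fun n => (h n).2

theorem inf_centralizer_seqIn_succ_le [Finite G] {p : ℕ} [Fact p.Prime] {R : Subgroup G}
    (hR : IsPGroup p R) (n : ℕ) :
    R ⊓ centralizer (seqIn R (n + 1) : Set G) ≤ seqIn R (n + 1) := by
  rintro x ⟨hx, hxc⟩
  refine ⟨⟨x, hx⟩, puig_centralizer_le hR (puigSeq R n) (mem_centralizer_iff.mpr fun y hy => ?_), rfl⟩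
  exact Subtype.ext (mem_centralizer_iff.mp hxc y ⟨y, hy, rfl⟩)

theorem inf_centralizer_lowerIn_le [Finite G] {p : ℕ} [Fact p.Prime] {R : Subgroup G}
    (hR : IsPGroup p R) : R ⊓ centralizer (lowerIn R : Set G) ≤ lowerIn R := by
  rintro x ⟨hx, hxc⟩
  refine ⟨⟨x, hx⟩, ?_, rfl⟩
  rw [← puigStep_puigSubgroup]
  refine puig_centralizer_le hR (puigSubgroup R) (mem_centralizer_iff.mpr fun y hy => ?_)
  rw [puigStep_puigSubgroup] at hy
  exact Subtype.ext (mem_centralizer_iff.mp hxc y ⟨y, hy, rfl⟩)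

theorem inf_centralizer_upperIn_le [Finite G] {p : ℕ} [Fact p.Prime] {R : Subgroup G}
    (hR : IsPGroup p R) : R ⊓ centralizer (upperIn R : Set G) ≤ upperIn R := by
  rintro x ⟨hx, hxc⟩
  refine ⟨⟨x, hx⟩, ?_, rfl⟩
  rw [← puigStep_lower]
  refine puig_centralizer_le hR (puigLower R) (mem_centralizer_iff.mpr fun y hy => ?_)
  rw [puigStep_lower] at hy
  exact Subtype.ext (mem_centralizer_iff.mp hxc y ⟨y, hy, rfl⟩)

theorem map_stepIn (f : G ≃* G) (R X : Subgroup G) :
    (stepIn R X).map f.toMonoidHom = stepIn (R.map f.toMonoidHom) (X.map f.toMonoidHom) := by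
  refine le_antisymm ?_ (stepIn_le ?_)
  · rw [map_le_iff_le_comap]
    refine stepIn_le fun A hA hc hn => ?_
    haveI := hc
    rw [← map_le_iff_le_comap]
    exact le_stepIn (map_mono hA) (Subgroup.map_isMulCommutative A _)
      ((map_mono hn).trans (le_normalizer_map _))
  · intro A hA hc hn
    haveI := hc
    have e : (A.map f.symm.toMonoidHom).map f.toMonoidHom = A := by
      rw [map_map, show f.toMonoidHom.comp f.symm.toMonoidHom = MonoidHom.id G from
        MonoidHom.ext fun x => f.apply_symm_apply x, map_id]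
    have e' : ∀ B : Subgroup G, (B.map f.toMonoidHom).map f.symm.toMonoidHom = B := fun B => by
      rw [map_map, show f.symm.toMonoidHom.comp f.toMonoidHom = MonoidHom.id G from
        MonoidHom.ext fun x => f.symm_apply_apply x, map_id]
    rw [← e]
    refine map_mono (le_stepIn ((map_mono hA).trans (e' R).le) (Subgroup.map_isMulCommutative A _) ?_)
    exact (e' X).ge.trans ((map_mono hn).trans (le_normalizer_map _))

theorem map_seqIn (f : G ≃* G) (R : Subgroup G) (n : ℕ) :
    (seqIn R n).map f.toMonoidHom = seqIn (R.map f.toMonoidHom) n := by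
  induction n with
  | zero => rw [seqIn_zero, seqIn_zero, Subgroup.map_bot]
  | succ n ih => rw [seqIn_succ, seqIn_succ, map_stepIn, ih]

theorem mem_normalizer_iff_map {H : Subgroup G} {g : G} :
    g ∈ normalizer (H : Set G) ↔ H.map (MulAut.conj g).toMonoidHom = H := by
  constructor
  · intro hg
    ext x
    constructor
    · rintro ⟨y, hy, rfl⟩
      exact (mem_normalizer_iff.mp hg y).mp hy
    · intro hx
      refine ⟨g⁻¹ * x * g, (mem_normalizer_iff.mp hg _).mpr ?_, ?_⟩
      · simpa [mul_assoc] using hx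
      · simp [mul_assoc]
  · intro h
    rw [mem_normalizer_iff]
    intro x
    constructor
    · exact fun hx => h.le ⟨x, hx, rfl⟩
    · intro hx
      obtain ⟨y, hy, hyx⟩ := h.ge hx
      have : y = x := by simpa [MulAut.conj] using hyx
      exact this ▸ hy

theorem normalizer_le_seqIn (R : Subgroup G) (n : ℕ) :
    normalizer (R : Set G) ≤ normalizer (seqIn R n : Set G) := fun g hg =>
  mem_normalizer_iff_map.mpr (by rw [map_seqIn, mem_normalizer_iff_map.mp hg])

theorem normalizer_le_upperIn (R : Subgroup G) :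
    normalizer (R : Set G) ≤ normalizer (upperIn R : Set G) := fun g hg => by
  refine mem_normalizer_iff_map.mpr ?_
  rw [upperIn_eq, Subgroup.map_iInf _ (MulEquiv.injective (MulAut.conj g))]
  exact iInf_congr fun n => mem_normalizer_iff_map.mp (normalizer_le_seqIn R _ hg)

theorem normalizer_le_lowerIn (R : Subgroup G) :
    normalizer (R : Set G) ≤ normalizer (lowerIn R : Set G) := fun g hg => by
  refine mem_normalizer_iff_map.mpr ?_
  rw [lowerIn_eq, Subgroup.map_iSup]
  exact iSup_congr fun n => mem_normalizer_iff_map.mp (normalizer_le_seqIn R _ hg)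

theorem normalizer_le_center (H : Subgroup G) :
    normalizer (H : Set G) ≤ normalizer ((H ⊓ centralizer (H : Set G) : Subgroup G) : Set G) := by
  intro g hg
  rw [mem_normalizer_iff]
  have key : ∀ g ∈ normalizer (H : Set G), ∀ x ∈ H ⊓ centralizer (H : Set G),
      g * x * g⁻¹ ∈ H ⊓ centralizer (H : Set G) := by
    rintro g hg x ⟨hx, hxc⟩
    refine ⟨(mem_normalizer_iff.mp hg x).mp hx, mem_centralizer_iff.mpr fun y hy => ?_⟩
    have h1 : g⁻¹ * y * g ∈ H := by
      have := (mem_normalizer_iff.mp (inv_mem hg) y).mp hy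
      simpa using this
    have h2 := mem_centralizer_iff.mp hxc _ h1
    calc y * (g * x * g⁻¹) = g * (g⁻¹ * y * g * x) * g⁻¹ := by simp [mul_assoc]
      _ = g * (x * (g⁻¹ * y * g)) * g⁻¹ := by rw [h2]
      _ = g * x * g⁻¹ * y := by simp [mul_assoc]
  intro x
  refine ⟨key g hg x, fun h => ?_⟩
  have := key g⁻¹ (inv_mem hg) _ h
  simpa [mul_assoc] using this

theorem center_upperIn (S : Subgroup G) :
    ((center ↥(puigSubgroup S)).map (puigSubgroup S).subtype).map S.subtype =
      upperIn S ⊓ centralizer (upperIn S : Set G) := by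
  ext x
  constructor
  · rintro ⟨y, ⟨z, hz, rfl⟩, rfl⟩
    refine ⟨⟨_, z.2, rfl⟩, mem_centralizer_iff.mpr ?_⟩
    rintro _ ⟨w, hw, rfl⟩
    exact congrArg (fun t : ↥(puigSubgroup S) => ((t : S) : G)) (mem_center_iff.mp hz ⟨w, hw⟩)
  · rintro ⟨⟨y, hy, rfl⟩, hc⟩
    refine ⟨y, ⟨⟨y, hy⟩, mem_center_iff.mpr fun w => ?_, rfl⟩, rfl⟩
    exact Subtype.ext (Subtype.ext (mem_centralizer_iff.mp hc _ ⟨w, w.2, rfl⟩))

theorem map_stepIn_of_injOn {H : Type*} [Group H] (f : G →* H) {R X : Subgroup G} (hXR : X ≤ R)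
    (hf : ∀ a ∈ R, ∀ b ∈ R, f a = f b → a = b) :
    (stepIn R X).map f = stepIn (R.map f) (X.map f) := by
  refine le_antisymm ?_ (stepIn_le ?_)
  · rw [map_le_iff_le_comap]
    refine stepIn_le fun A hA hc hn => ?_
    haveI := hc
    rw [← map_le_iff_le_comap]
    exact le_stepIn (map_mono hA) (Subgroup.map_isMulCommutative A _)
      ((map_mono hn).trans (le_normalizer_map _))
  · intro A hA hc hn
    haveI := hc
    have hA' : IsMulCommutative ↥(R ⊓ A.comap f) := ⟨⟨fun a b => Subtype.ext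
      (hf _ (mul_mem a.2.1 b.2.1) _ (mul_mem b.2.1 a.2.1) (by
        simp only [Subgroup.coe_mul, map_mul]
        exact congrArg Subtype.val (mul_comm' (⟨_, a.2.2⟩ : A) ⟨_, b.2.2⟩)))⟩⟩
    have hn' : X ≤ normalizer ((R ⊓ A.comap f : Subgroup G) : Set G) := by
      intro x hx
      have hxR := hXR hx
      have h1 := mem_normalizer_iff.mp (hn ⟨x, hx, rfl⟩)
      rw [mem_normalizer_iff]
      intro a
      constructor
      · rintro ⟨ha, haA⟩
        exact ⟨R.mul_mem (R.mul_mem hxR ha) (R.inv_mem hxR), by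
          show f _ ∈ A
          rw [map_mul, map_mul, map_inv]; exact (h1 (f a)).mp haA⟩
      · rintro ⟨ha, haA⟩
        have haR : a ∈ R := by
          have := R.mul_mem (R.mul_mem (R.inv_mem hxR) ha) hxR
          simpa [mul_assoc] using this
        refine ⟨haR, (h1 (f a)).mpr ?_⟩
        have : f (x * a * x⁻¹) ∈ A := haA
        simpa using this
    intro a ha
    obtain ⟨r, hr, rfl⟩ := hA ha
    exact ⟨r, le_stepIn inf_le_left hA' hn' ⟨hr, ha⟩, rfl⟩

theorem map_seqIn_of_injOn {H : Type*} [Group H] (f : G →* H) {R : Subgroup G}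
    (hf : ∀ a ∈ R, ∀ b ∈ R, f a = f b → a = b) (n : ℕ) :
    (seqIn R n).map f = seqIn (R.map f) n := by
  induction n with
  | zero => rw [seqIn_zero, seqIn_zero, Subgroup.map_bot]
  | succ n ih => rw [seqIn_succ, seqIn_succ, map_stepIn_of_injOn f (seqIn_le R n) hf, ih]

theorem map_upperIn_of_injOn [Finite G] {H : Type*} [Group H] [Finite H] (f : G →* H)
    {R : Subgroup G} (hf : ∀ a ∈ R, ∀ b ∈ R, f a = f b → a = b) :
    (upperIn R).map f = upperIn (R.map f) := by
  have h : (lowerIn R).map f = lowerIn (R.map f) := by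
    rw [lowerIn_eq, lowerIn_eq, Subgroup.map_iSup]
    exact iSup_congr fun n => map_seqIn_of_injOn f hf _
  rw [← stepIn_lowerIn R, ← stepIn_lowerIn (R.map f), ← h]
  exact map_stepIn_of_injOn f ((lowerIn_le_upperIn R).trans (upperIn_le R)) hf

end Cfsg.Agent.H42
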